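import Cfsg.Agent.Lib.SubfieldMax.Linear

/-!
Block-monomial matrices, and generation of the special linear group from them and one elementary
transvection between different blocks.
-/

set_option autoImplicit false

namespace Cfsg.Agent.Lib.DecompMax.Blocks

open Matrix Cfsg.Agent.Lib.Subspaces.Transvection

variable {ι : Type} [Fintype ι] [DecidableEq ι] {F : Type*} [Field F] {B : Type} [DecidableEq B]

/-- `g` permutes the coordinate blocks of `β`. -/
def BlockMon (β : ι → B) (g : GL ι F) : Prop :=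
  ∃ σ : Equiv.Perm B, ∀ a b, (g : Matrix ι ι F) a b ≠ 0 → β a = σ (β b)

/-- `M` contains the block-monomial matrices of determinant one; the blocks are equipotent. -/
structure Setting (β : ι → B) (M : Subgroup (GL ι F)) : Prop where
  mem : ∀ g : GL ι F, BlockMon β g → (g : Matrix ι ι F).det = 1 → g ∈ M
  equal : ∃ (m : ℕ) (e : ι ≃ B × Fin m), ∀ a, β a = (e a).1

/-- The monomial matrix sending the basis vector at `σ l` to `d (σ l)` times the one at `l`. -/
noncomputable def mono (d : ι → F) (σ : Equiv.Perm ι) : GL ι F :=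
  open Classical in
  if h : (diagonal d * (σ.toPEquiv.toMatrix : Matrix ι ι F)).det ≠ 0 then
    Matrix.GeneralLinearGroup.mkOfDetNeZero _ h
  else 1

theorem det_mono_aux (d : ι → F) (σ : Equiv.Perm ι) :
    (diagonal d * (σ.toPEquiv.toMatrix : Matrix ι ι F)).det =
      (∏ l, d l) * ((Equiv.Perm.sign σ : ℤ) : F) := by
  rw [det_mul, det_diagonal, det_permutation]

theorem coe_mono {d : ι → F} (hd : ∀ l, d l ≠ 0) (σ : Equiv.Perm ι) :
    (mono d σ : Matrix ι ι F) = diagonal d * (σ.toPEquiv.toMatrix : Matrix ι ι F) := by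
  rw [mono, dif_pos]
  · rfl
  rw [det_mono_aux]
  refine mul_ne_zero (Finset.prod_ne_zero_iff.2 fun l _ => hd l) ?_
  rcases Int.units_eq_one_or (Equiv.Perm.sign σ) with h | h <;> simp [h]

theorem mono_mulVec {d : ι → F} (hd : ∀ l, d l ≠ 0) (σ : Equiv.Perm ι) (x : ι → F) (l : ι) :
    ((mono d σ : Matrix ι ι F) *ᵥ x) l = d l * x (σ l) := by
  rw [coe_mono hd, ← mulVec_mulVec, mulVec_diagonal]
  congr 1
  simp [mulVec, dotProduct, PEquiv.toMatrix_apply, Equiv.toPEquiv_apply]

theorem det_mono {d : ι → F} (hd : ∀ l, d l ≠ 0) (σ : Equiv.Perm ι) :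
    (mono d σ : Matrix ι ι F).det = (∏ l, d l) * ((Equiv.Perm.sign σ : ℤ) : F) := by
  rw [coe_mono hd, det_mono_aux]

theorem mono_apply {d : ι → F} (hd : ∀ l, d l ≠ 0) (σ : Equiv.Perm ι) (a b : ι) :
    (mono d σ : Matrix ι ι F) a b = if σ a = b then d a else 0 := by
  have := congrArg id (mono_mulVec hd σ (Pi.single b 1) a)
  rw [id, id, mulVec_single_one, Matrix.col_apply] at this
  rw [this, Pi.single_apply, mul_ite, mul_one, mul_zero]

theorem blockMon_mono {β : ι → B} {d : ι → F} (hd : ∀ l, d l ≠ 0) {σ : Equiv.Perm ι} (τ : Equiv.Perm B)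
    (h : ∀ l, β (σ l) = τ (β l)) : BlockMon β (mono d σ) := by
  refine ⟨τ⁻¹, fun a b hab => ?_⟩
  rw [mono_apply hd, ite_ne_right_iff] at hab
  rw [← hab.1, h, Equiv.Perm.inv_def, τ.symm_apply_apply]

theorem blockMon_tv {β : ι → B} {a b : ι} (hab : β a = β b) (hne : a ≠ b) (c : F) :
    BlockMon β (tv (Pi.single a c) (Pi.single b 1)) := by
  refine ⟨1, fun x y hxy => ?_⟩
  rw [coe_tv (by simp [hne]), Matrix.add_apply, vecMulVec_apply] at hxy
  by_cases h : x = y
  · rw [h]; rfl
  · rw [Matrix.one_apply_ne h, zero_add, Pi.single_apply, Pi.single_apply] at hxy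
    split_ifs at hxy with h1 h2 <;> simp_all

/-- A subgroup with all elementary transvections contains `SL`. -/
theorem sl_le_of_single {M : Subgroup (GL ι F)}
    (h : ∀ a b : ι, a ≠ b → ∀ c : F, tv (Pi.single a c) (Pi.single b 1) ∈ M) :
    Cfsg.Geo.specialLinear ι F ≤ M := by
  have hfull : ∀ i : ι, FullCenter M (Pi.single i 1) := by
    intro i φ hφ
    have hφi : φ i = 0 := by simpa using hφ
    let A : AddSubmonoid (ι → F) :=
      { carrier := {ψ | ψ i = 0 ∧ tv (Pi.single i 1) ψ ∈ M}
        zero_mem' := ⟨rfl, by rw [tv_zero_right]; exact M.one_mem⟩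
        add_mem' := fun {a b} ha hb => ⟨by simp [ha.1, hb.1], by
          rw [← tv_mul_center (by simp [ha.1]) (by simp [hb.1])]; exact M.mul_mem ha.2 hb.2⟩ }
    have hmemA : φ ∈ A := by
      rw [← Finset.univ_sum_single φ]
      refine sum_mem fun l _ => ?_
      rcases eq_or_ne l i with rfl | hl
      · rw [hφi, Pi.single_zero]; exact A.zero_mem
      · refine ⟨by simp [hl.symm], ?_⟩
        have h1 := h i l hl.symm (φ l)
        rw [show (Pi.single i (φ l) : ι → F) = φ l • Pi.single i 1 by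
          rw [← Pi.single_smul, smul_eq_mul, mul_one], tv_smul (by simp [hl.symm]),
          ← Pi.single_smul, smul_eq_mul, mul_one] at h1
        exact h1
    exact hmemA.2
  refine specialLinear_le_of_fullCenter fun w => (mem_fullCenters (M := M)).1 ?_
  rw [← Finset.univ_sum_single w]
  refine sum_mem fun l _ => ?_
  have := (fullCenters M).smul_mem (w l) ((mem_fullCenters (M := M)).2 (hfull l))
  rwa [← Pi.single_smul, smul_eq_mul, mul_one] at this

/-- An elementary transvection between different blocks. -/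
def Off (β : ι → B) (M : Subgroup (GL ι F)) : Prop :=
  ∃ (a b : ι) (c : F), β a ≠ β b ∧ c ≠ 0 ∧ tv (Pi.single a c) (Pi.single b 1) ∈ M

theorem mono_conj_tv {d : ι → F} (hd : ∀ l, d l ≠ 0) (σ : Equiv.Perm ι) {v φ : ι → F} (h : φ ⬝ᵥ v = 0) :
    mono d σ * tv v φ * (mono d σ)⁻¹ = tv (fun l => d l * v (σ l)) (fun l => φ (σ l) / d l) := by
  rw [conj_tv _ h]
  congr 1
  · exact funext fun l => mono_mulVec hd σ v l
  · refine dotProduct_eq _ _ fun x => ?_
    rw [← dotProduct_mulVec]
    have hinv : ((mono d σ)⁻¹ : GL ι F).1 *ᵥ x = fun l => x (σ.symm l) / d (σ.symm l) := by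
      refine gl_mulVec_injective (mono d σ) ?_
      show (mono d σ : Matrix ι ι F) *ᵥ _ = (mono d σ : Matrix ι ι F) *ᵥ _
      rw [gl_mulVec_inv]
      funext l
      rw [mono_mulVec hd, σ.symm_apply_apply, mul_div_cancel₀ _ (hd l)]
    rw [hinv]
    simp only [dotProduct]
    rw [← Equiv.sum_comp σ]
    refine Finset.sum_congr rfl fun l _ => ?_
    rw [σ.symm_apply_apply]
    ring

namespace Setting

variable {β : ι → B} {M : Subgroup (GL ι F)} (S : Setting β M)
include S

theorem diag_mem {d : ι → F} (hd : ∀ l, d l ≠ 0) (hdet : ∏ l, d l = 1) : mono d 1 ∈ M :=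
  S.mem _ (blockMon_mono hd 1 fun _ => rfl) (by rw [det_mono hd, hdet, Equiv.Perm.sign_one]; simp)

theorem tv_mem {a b : ι} (hab : β a = β b) (hne : a ≠ b) (c : F) :
    tv (Pi.single a c) (Pi.single b 1) ∈ M :=
  S.mem _ (blockMon_tv hab hne c) (det_tv _ _)

/-- One elementary transvection between blocks generates. -/
theorem sl_le_of_off (h3 : 3 ≤ Fintype.card ι) (h : Off β M) : Cfsg.Geo.specialLinear ι F ≤ M := by
  classical
  obtain ⟨a, b, c, hab, hc, hM⟩ := h
  obtain ⟨m, e, he⟩ := S.equal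
  refine sl_le_of_single fun a' b' hne c' => ?_
  by_cases hb : β a' = β b'
  · exact S.tv_mem hb hne c'
  rcases eq_or_ne c' 0 with rfl | hc'
  · rw [Pi.single_zero, tv_zero_left]; exact M.one_mem
  -- a block permutation sending `a'` to `a` and `b'` to `b`
  have hne0 : a ≠ b := fun h => hab (congrArg β h)
  let τ₁ : Equiv.Perm B := Equiv.swap (β a') (β a)
  have hτ₁ : τ₁ (β a') = β a := Equiv.swap_apply_left _ _
  let τ : Equiv.Perm B := τ₁.trans (Equiv.swap (τ₁ (β b')) (β b))
  have hτb : τ (β b') = β b := by simp [τ]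
  have hτa : τ (β a') = β a := by
    have h1 : τ₁ (β a') ≠ τ₁ (β b') := fun e => hb (τ₁.injective e)
    show Equiv.swap _ _ (τ₁ (β a')) = β a
    rw [Equiv.swap_apply_of_ne_of_ne h1 (by rw [hτ₁]; exact hab), hτ₁]
  let ρ : B → Equiv.Perm (Fin m) := fun k =>
    if k = β a' then Equiv.swap (e a').2 (e a).2 else Equiv.swap (e b').2 (e b).2
  let π : Equiv.Perm ι := e.trans ((Equiv.prodShear τ ρ).trans e.symm)
  have hπ : ∀ l, π l = e.symm (τ (β l), ρ (β l) (e l).2) := fun l => by
    simp [π, he]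
  have hπa : π a' = a := by
    rw [hπ, hτa, Equiv.symm_apply_eq]
    ext <;> simp [ρ, he]
  have hπb : π b' = b := by
    rw [hπ, hτb, Equiv.symm_apply_eq]
    ext <;> simp [ρ, he, show (e b').1 ≠ (e a').1 by rw [← he, ← he]; exact Ne.symm hb]
  have hπβ : ∀ l, β (π l) = τ (β l) := fun l => by rw [hπ, he, e.apply_symm_apply]
  -- a third coordinate to adjust the determinant
  obtain ⟨k, hka, hkb⟩ : ∃ k, k ≠ a' ∧ k ≠ b' := by
    obtain ⟨k, hk⟩ : ∃ k, k ∉ ({a', b'} : Finset ι) := by
      by_contra hall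
      push Not at hall
      have : Fintype.card ι ≤ ({a', b'} : Finset ι).card := Finset.card_le_card (fun k _ => hall k)
      have h2 := Finset.card_le_two (a := a') (b := b')
      omega
    exact ⟨k, by simpa using hk⟩
  set ε : F := ((Equiv.Perm.sign π : ℤ) : F)
  have hε : ε * ε = 1 := by rcases Int.units_eq_one_or (Equiv.Perm.sign π) with h | h <;> simp [ε, h]
  let d : ι → F := Function.update (Function.update 1 a' (c' / c)) k (c / c' * ε)
  have hda : d a' = c' / c := by simp [d, Ne.symm hka]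
  have hdb : d b' = 1 := by simp [d, Ne.symm hkb, Ne.symm hne]
  have hd : ∀ l, d l ≠ 0 := fun l => by
    by_cases h1 : l = k
    · subst h1; simp [d, hc, hc', left_ne_zero_of_mul_eq_one hε]
    by_cases h2 : l = a'
    · subst h2; rw [hda]; exact div_ne_zero hc' hc
    simp [d, h1, h2]
  have hdet : (∏ l, d l) * ε = 1 := by
    rw [Finset.prod_update_of_mem (Finset.mem_univ k), Finset.prod_update_of_mem (by simpa using Ne.symm hka)]
    simp only [Pi.one_apply, Finset.prod_const_one, mul_one]
    field_simp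
    linear_combination hε
  have hmem := S.mem _ (blockMon_mono hd τ hπβ) (by rw [det_mono hd]; exact hdet)
  have := M.mul_mem (M.mul_mem hmem hM) (M.inv_mem hmem)
  rw [mono_conj_tv hd π (by simp [hne0])] at this
  convert this using 2
  · funext l
    by_cases h1 : l = a'
    · subst h1; simp [hπa, hda, div_mul_cancel₀ _ hc]
    · simp [h1, show π l ≠ a from fun e => h1 (π.injective (e.trans hπa.symm))]
  · funext l
    by_cases h1 : l = b'
    · subst h1; simp [hπb, hdb]
    · simp [h1, show π l ≠ b from fun e => h1 (π.injective (e.trans hπb.symm))]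

end Setting

end Cfsg.Agent.Lib.DecompMax.Blocks
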