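import Mathlib

/-!
Zeros of linear functionals on vectors with prescribed support.
-/

set_option autoImplicit false

namespace Cfsg.Agent.Lib.DecompMax.Count

open Matrix Finset

variable {ι : Type} [Fintype ι] [DecidableEq ι] {F : Type*} [Field F] [Fintype F] [DecidableEq F]

/-- The vectors with support `R`. -/
def torus (F : Type*) [Field F] [Fintype F] [DecidableEq F] (R : Finset ι) : Finset (ι → F) :=
  Fintype.piFinset fun i => if i ∈ R then (univ : Finset F).erase 0 else {0}

theorem mem_torus {R : Finset ι} {x : ι → F} : x ∈ torus F R ↔ ∀ i, (x i ≠ 0 ↔ i ∈ R) := by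
  simp only [torus, Fintype.mem_piFinset]
  refine forall_congr' fun i => ?_
  by_cases h : i ∈ R <;> simp [h]

theorem card_torus (R : Finset ι) : (torus F R).card = (Fintype.card F - 1) ^ R.card := by
  simp [torus, Fintype.card_piFinset, apply_ite Finset.card, Finset.prod_ite_mem]

theorem torus_insert {j : ι} {R : Finset ι} (hj : j ∉ R) :
    torus F (insert j R) = ((torus F R) ×ˢ (univ : Finset F).erase 0).image
      fun p => p.1 + Pi.single j p.2 := by
  ext x
  simp only [Finset.mem_image, Finset.mem_product, Finset.mem_erase, Finset.mem_univ, and_true,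
    mem_torus, Prod.exists]
  constructor
  · intro hx
    refine ⟨Function.update x j 0, x j, ⟨fun i => ?_, (hx j).2 (Finset.mem_insert_self j R)⟩, ?_⟩
    · by_cases h : i = j
      · subst h; simp [hj]
      · simp [h, hx i]
    · funext i
      by_cases h : i = j
      · subst h; simp
      · simp [h]
  · rintro ⟨y, c, ⟨hy, hc⟩, rfl⟩ i
    by_cases h : i = j
    · subst h
      have : y i = 0 := by
        by_contra h'
        exact hj ((hy i).1 h')
      simp [this, hc]
    · simp [h, hy i]

/-- The number of zeros of a functional on the vectors with support `R`. -/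
theorem card_zeros (R : Finset ι) (φ : ι → F) :
    (Fintype.card F : ℤ) * ((torus F R).filter fun x => φ ⬝ᵥ x = 0).card =
      ((Fintype.card F : ℤ) - 1) ^ R.card + (-1) ^ (R.filter fun i => φ i ≠ 0).card *
        ((Fintype.card F : ℤ) - 1) ^ (R.card + 1 - (R.filter fun i => φ i ≠ 0).card) := by
  set Q : ℤ := (Fintype.card F : ℤ) - 1 with hQ
  have hq : ((Fintype.card F - 1 : ℕ) : ℤ) = Q := by
    rw [Nat.cast_sub Fintype.card_pos]; simp [hQ]
  induction R using Finset.induction_on with
  | empty =>
    have h0 : torus F (∅ : Finset ι) = {0} := by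
      ext x
      simp [mem_torus, funext_iff]
    simp [h0, Finset.filter_singleton, hQ]
  | insert j R hj ih =>
    set w := (R.filter fun i => φ i ≠ 0).card
    have hw : w ≤ R.card := Finset.card_filter_le _ _
    have hinj : Set.InjOn (fun p : (ι → F) × F => p.1 + Pi.single j p.2)
        ((torus F R ×ˢ (univ : Finset F).erase 0 : Finset ((ι → F) × F)) : Set ((ι → F) × F)) := by
      rintro ⟨y, c⟩ hy ⟨y', c'⟩ hy' he
      simp only [Finset.coe_product, Set.mem_prod, Finset.mem_coe, mem_torus] at hy hy'
      have h1 : y j = 0 := by
        by_contra h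
        exact hj ((hy.1 j).1 h)
      have h2 : y' j = 0 := by
        by_contra h
        exact hj ((hy'.1 j).1 h)
      have h3 := congrFun he j
      simp [h1, h2] at h3
      subst h3
      simp only [Prod.mk.injEq, and_true]
      exact add_right_cancel he
    have hcount : ((torus F (insert j R)).filter fun x => φ ⬝ᵥ x = 0).card =
        ∑ y ∈ torus F R, (((univ : Finset F).erase 0).filter fun c => φ ⬝ᵥ y + φ j * c = 0).card := by
      rw [torus_insert hj, Finset.filter_image,
        Finset.card_image_of_injOn (hinj.mono (Finset.coe_subset.2 (Finset.filter_subset _ _))),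
        Finset.card_filter, Finset.sum_product]
      refine Finset.sum_congr rfl fun y _ => ?_
      rw [Finset.card_filter]
      simp [dotProduct_add]
    by_cases hφ : φ j = 0
    · have h1 : ((torus F (insert j R)).filter fun x => φ ⬝ᵥ x = 0).card =
          (Fintype.card F - 1) * ((torus F R).filter fun x => φ ⬝ᵥ x = 0).card := by
        rw [hcount, Finset.card_filter, Finset.mul_sum]
        refine Finset.sum_congr rfl fun y _ => ?_
        by_cases h : φ ⬝ᵥ y = 0 <;> simp [h, hφ]
      rw [h1, Finset.filter_insert, if_neg (not_not.2 hφ), Finset.card_insert_of_notMem hj]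
      push_cast [hq]
      rw [mul_left_comm, ih, show R.card + 1 + 1 - w = R.card + 1 - w + 1 by omega, pow_succ, pow_succ]
      ring
    · have h1 : ((torus F (insert j R)).filter fun x => φ ⬝ᵥ x = 0).card +
          ((torus F R).filter fun x => φ ⬝ᵥ x = 0).card = (Fintype.card F - 1) ^ R.card := by
        rw [hcount, ← card_torus, Finset.card_filter (fun x => φ ⬝ᵥ x = 0), ← Finset.sum_add_distrib,
          Finset.card_eq_sum_ones]
        refine Finset.sum_congr rfl fun y _ => ?_
        by_cases h : φ ⬝ᵥ y = 0
        · rw [Finset.filter_false_of_mem]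
          · simp [h]
          intro c hc
          simp only [Finset.mem_erase] at hc
          simp [h, hφ, hc.1]
        · rw [if_neg h, add_zero, Finset.card_eq_one]
          refine ⟨-(φ ⬝ᵥ y) / φ j, ?_⟩
          ext c
          simp only [Finset.mem_filter, Finset.mem_erase, Finset.mem_univ, and_true, Finset.mem_singleton]
          constructor
          · rintro ⟨-, hc⟩
            rw [eq_div_iff hφ]; linear_combination hc
          · rintro rfl
            exact ⟨div_ne_zero (neg_ne_zero.2 h) hφ, by field_simp; ring⟩
      have h2 := congrArg (fun m : ℕ => (m : ℤ)) h1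
      simp only [Nat.cast_add, Nat.cast_pow, hq] at h2
      rw [Finset.filter_insert, if_pos hφ, Finset.card_insert_of_notMem hj,
        Finset.card_insert_of_notMem (show j ∉ R.filter fun i => φ i ≠ 0 by simp [hj]),
        show R.card + 1 + 1 - (w + 1) = R.card + 1 - w by omega, pow_succ (-1 : ℤ), pow_succ Q]
      linear_combination (Fintype.card F : ℤ) * h2 - ih - Q ^ R.card * hQ

/-- Sum of the numbers of zero coordinates. -/
theorem sum_zeros (R : Finset ι) (A : Matrix ι ι F) :
    ∑ x ∈ torus F R, (univ.filter fun i => (A *ᵥ x) i = 0).card =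
      ∑ i, ((torus F R).filter fun x => A i ⬝ᵥ x = 0).card := by
  simp only [Finset.card_filter]
  rw [Finset.sum_comm]
  rfl

end Cfsg.Agent.Lib.DecompMax.Count
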