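import Cfsg.Agent.Lib.DecompMax.Supports

/-!
The inverse-transpose of an overgroup of the monomial group.
-/

set_option autoImplicit false

namespace Cfsg.Agent.Lib.DecompMax.Dual

open Matrix Cfsg.Agent.Lib.Subspaces.Transvection Cfsg.Agent.Lib.DecompMax.Blocks
  Cfsg.Agent.Lib.DecompMax.Supports

variable {ι : Type} [Fintype ι] [DecidableEq ι] {F : Type*} [Field F]

/-- `g ↦ (g⁻¹)ᵀ`. -/
def dual : GL ι F →* GL ι F where
  toFun g := ⟨((g⁻¹ : GL ι F) : Matrix ι ι F)ᵀ, (g : Matrix ι ι F)ᵀ,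
    by rw [← transpose_mul, ← Units.val_mul, mul_inv_cancel, Units.val_one, transpose_one],
    by rw [← transpose_mul, ← Units.val_mul, inv_mul_cancel, Units.val_one, transpose_one]⟩
  map_one' := Units.ext (by simp)
  map_mul' g h := Units.ext (by simp [transpose_mul, Matrix.coe_units_inv])

theorem coe_dual (g : GL ι F) : (dual g : Matrix ι ι F) = ((g⁻¹ : GL ι F) : Matrix ι ι F)ᵀ := rfl

theorem dual_dual (g : GL ι F) : dual (dual g) = g := by
  refine Units.ext ?_
  show ((g : Matrix ι ι F)ᵀ)ᵀ = (g : Matrix ι ι F)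
  rw [transpose_transpose]

theorem blockMon_dual [Finite F] {g : GL ι F} (hg : BlockMon id g) : BlockMon id (dual g) := by
  obtain ⟨σ, hσ⟩ := blockMon_inv hg
  refine ⟨σ⁻¹, fun a b hab => ?_⟩
  rw [coe_dual, transpose_apply] at hab
  have h : b = σ a := hσ b a hab
  show a = σ⁻¹ b
  rw [h, Equiv.Perm.inv_def, σ.symm_apply_apply]

theorem hyp_dual [Finite F] {M : Subgroup (GL ι F)} (H : Hyp M) : Hyp (M.map dual) := by
  have hmem : ∀ g, g ∈ M.map dual ↔ dual g ∈ M := fun g => by
    constructor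
    · rintro ⟨x, hx, rfl⟩; rwa [dual_dual]
    · exact fun h => ⟨_, h, dual_dual g⟩
  have hdet : ∀ g : GL ι F, (dual g : Matrix ι ι F).det = ((g : Matrix ι ι F).det)⁻¹ := fun g => by
    rw [coe_dual, det_transpose]
    refine eq_inv_of_mul_eq_one_left ?_
    rw [← det_mul, ← Units.val_mul, inv_mul_cancel, Units.val_one, det_one]
  refine ⟨⟨fun g hg hd => (hmem g).2 (H.setting.mem _ (blockMon_dual hg) (by rw [hdet, hd, inv_one])),
    H.setting.equal⟩, ?_, H.card, H.five, ?_⟩
  · rintro g ⟨x, hx, rfl⟩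
    rw [hdet, H.det x hx, inv_one]
  · rintro ⟨a, b, c, hab, hc, hM⟩
    refine H.off ⟨b, a, -c, Ne.symm hab, neg_ne_zero.2 hc, ?_⟩
    have hne : a ≠ b := hab
    have h := (hmem _).1 hM
    convert h using 1
    apply Units.ext
    rw [coe_dual, tv_inv (by simp [hne]), coe_tv (by simp [hne]), coe_tv (by simp [hne.symm]),
      transpose_add, transpose_one, transpose_vecMulVec]
    congr 1
    ext i j
    simp [vecMulVec_apply, Pi.single_apply]
    split_ifs <;> simp

end Cfsg.Agent.Lib.DecompMax.Dual
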