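import Cfsg.Agent.Lib.DecompMax.Dual
import Cfsg.Agent.Lib.DecompMax.Count

/-!
Overgroups of the monomial group: averaging the number of zero coordinates.
-/

set_option autoImplicit false

namespace Cfsg.Agent.Lib.DecompMax.Final

open Matrix Cfsg.Agent.Lib.Subspaces.Transvection Cfsg.Agent.Lib.DecompMax.Blocks
  Cfsg.Agent.Lib.DecompMax.Supports Cfsg.Agent.Lib.DecompMax.Count

variable {ι : Type} [Fintype ι] [DecidableEq ι] {F : Type*} [Field F] [Fintype F] [DecidableEq F]
  {M : Subgroup (GL ι F)}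

/-- Zero coordinates. -/
def zset (v : ι → F) : Finset ι := Finset.univ.filter fun i => v i = 0

theorem zset_card_col (H : Hyp M) {g : GL ι F} (hg : g ∈ M) (hmon : ¬ BlockMon id g) (j : ι) :
    (zset fun i => (g : Matrix ι ι F) i j).card = 1 := by
  obtain ⟨p, hp⟩ := col_exists_zero H hg j
  refine le_antisymm ?_ (Finset.card_pos.2 ⟨p, by simp [zset, hp]⟩)
  by_contra h'
  push Not at h'
  obtain ⟨a, ha, b, hb, hab⟩ := Finset.one_lt_card.1 h'
  simp only [zset, Finset.mem_filter, Finset.mem_univ, true_and] at ha hb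
  exact hmon (col_two_zeros H hg hab ha hb)

theorem zset_card_row (H : Hyp M) {g : GL ι F} (hg : g ∈ M) (hmon : ¬ BlockMon id g) (r : ι) :
    (zset ((g : Matrix ι ι F) r)).card = 1 := by
  have hmem : Dual.dual g⁻¹ ∈ M.map Dual.dual := ⟨_, M.inv_mem hg, rfl⟩
  have hne : ¬ BlockMon id (Dual.dual g⁻¹) := fun h => hmon (by
    have := blockMon_inv (Dual.blockMon_dual h)
    rwa [Dual.dual_dual, inv_inv] at this)
  have h := zset_card_col (Dual.hyp_dual H) hmem hne r
  have e : (fun i => (Dual.dual g⁻¹ : Matrix ι ι F) i r) = (g : Matrix ι ι F) r := funext fun i => by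
    rw [Dual.coe_dual, transpose_apply, inv_inv]
  rwa [e] at h

omit [Fintype F] [DecidableEq F] in
theorem lt_four_pow (e : ℕ) : (e + 6) ^ 2 + (e + 6) ^ 3 < 256 * 4 ^ e := by
  induction e with
  | zero => norm_num
  | succ e ih => rw [pow_succ 4 e]; nlinarith [sq_nonneg e, pow_nonneg (Nat.zero_le e) 3]

variable (H : Hyp M)
include H

/-- There is no non-monomial element. -/
theorem blockMon_of_mem (hqn : 13 ≤ Fintype.card ι ∨ Fintype.card F ≠ Fintype.card ι) {g : GL ι F}
    (hg : g ∈ M) : BlockMon id g := by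
  by_contra hmon
  have hn := H.card
  have hq5 : 5 ≤ Fintype.card F := by rw [← Nat.card_eq_fintype_card]; exact H.five
  set G := (g : Matrix ι ι F)
  set n := Fintype.card ι with hn_def
  set q := Fintype.card F with hq_def
  set Q : ℤ := (q : ℤ) - 1 with hQ
  obtain ⟨j₀⟩ : Nonempty ι := Fintype.card_pos_iff.1 (by omega)
  set a : ι → F := fun i => G i j₀ with ha
  have hZ : (zset a).card = 1 := zset_card_col H hg hmon j₀
  obtain ⟨r₀, hr₀⟩ := Finset.card_pos.1 (hZ ▸ Nat.one_pos)
  have hr₀' : a r₀ = 0 := by simpa [zset] using hr₀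
  set R : Finset ι := Finset.univ.filter fun i => a i ≠ 0 with hR
  have hRn : R.card + (zset a).card = n := by
    rw [hR, zset, add_comm]
    exact Finset.card_filter_add_card_filter_not _
  -- the values on the torus
  have hval : ∀ x ∈ torus F R, (zset (G *ᵥ x)).card = 1 ∨
      (1 ≤ (zset (G *ᵥ x)).card ∧ ∃ p c, c ≠ 0 ∧ G *ᵥ x = Pi.single p c) := by
    intro x hx
    rw [mem_torus] at hx
    set d : ι → F := fun l => if a l = 0 then 1 else x l / a l
    have hd : ∀ l, d l ≠ 0 := fun l => by
      by_cases h : a l = 0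
      · simp [d, h]
      · simp only [d, if_neg h]
        exact div_ne_zero ((hx l).2 (by simp [hR, h])) h
    obtain ⟨d', hd', hdM, heq⟩ := Stab.exists_lift H.setting r₀ hd 1
    have hna : (mono d' 1 : Matrix ι ι F) *ᵥ a = x := funext fun l => by
      rw [mono_mulVec hd', Equiv.Perm.one_apply]
      by_cases h : a l = 0
      · rw [h, mul_zero]
        by_contra hne
        exact (Finset.mem_filter.1 ((hx l).1 (Ne.symm hne))).2 h
      · rw [heq l (fun e => h (e ▸ hr₀')), show d l = x l / a l from if_neg h, div_mul_cancel₀ _ h]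
    set g' := g * mono d' 1 * g
    have hg' : g' ∈ M := M.mul_mem (M.mul_mem hg hdM) hg
    have hcol : (fun i => (g' : Matrix ι ι F) i j₀) = G *ᵥ x := by
      have : (g' : Matrix ι ι F) *ᵥ Pi.single j₀ 1 = G *ᵥ x := by
        rw [gl_mul_mulVec, gl_mul_mulVec, mulVec_single_one]
        show G *ᵥ ((mono d' 1 : Matrix ι ι F) *ᵥ a) = _
        rw [hna]
      rw [← this, mulVec_single_one]
      rfl
    by_cases hm : BlockMon id g'
    · right
      obtain ⟨σ, hσ⟩ := hm
      replace hσ : ∀ a b, (g' : Matrix ι ι F) a b ≠ 0 → a = σ b := hσ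
      have e : G *ᵥ x = Pi.single (σ j₀) ((g' : Matrix ι ι F) (σ j₀) j₀) := by
        rw [← hcol]
        funext i
        by_cases hi : i = σ j₀
        · subst hi; simp
        · rw [Pi.single_eq_of_ne hi]
          by_contra hne
          exact hi (hσ i j₀ hne)
      refine ⟨?_, _, _, mon_entry_ne hσ j₀, e⟩
      obtain ⟨i, hi⟩ := Stab.exists_not_mem (s := ({σ j₀} : Finset ι)) (by simp; omega)
      refine Finset.card_pos.2 ⟨i, ?_⟩
      simp only [Finset.mem_singleton] at hi
      simp [zset, e, hi]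
    · left
      rw [← hcol]
      exact zset_card_col H hg' hm j₀
  have hone : ∀ x ∈ torus F R, 1 ≤ (zset (G *ᵥ x)).card := fun x hx =>
    (hval x hx).elim (fun h => h.ge) (fun h => h.1)
  -- the exceptional vectors
  set E := (torus F R).filter fun x => ∃ p c, c ≠ 0 ∧ G *ᵥ x = Pi.single p c
  have hE : E.card ≤ n * (q - 1) := by
    have hsub : E ⊆ ((Finset.univ : Finset ι) ×ˢ (Finset.univ : Finset F).erase 0).image
        fun pc => ((g⁻¹ : GL ι F) : Matrix ι ι F) *ᵥ Pi.single pc.1 pc.2 := by
      intro x hx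
      obtain ⟨-, p, c, hc, he⟩ := Finset.mem_filter.1 hx
      refine Finset.mem_image.2 ⟨(p, c), by simp [hc], ?_⟩
      rw [← he]
      exact gl_inv_mulVec g x
    refine (Finset.card_le_card hsub).trans (Finset.card_image_le.trans ?_)
    rw [Finset.card_product, Finset.card_erase_of_mem (Finset.mem_univ _), Finset.card_univ, Finset.card_univ]
  set S := ∑ x ∈ torus F R, (zset (G *ᵥ x)).card with hS
  have hupper : S ≤ (q - 1) ^ R.card + n * (n * (q - 1)) := by
    calc S ≤ ∑ x ∈ torus F R, (1 + if x ∈ E then n else 0) := Finset.sum_le_sum fun x hx => by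
          rcases hval x hx with h | ⟨-, h⟩
          · exact h.le.trans (Nat.le_add_right _ _)
          · rw [if_pos (Finset.mem_filter.2 ⟨hx, h⟩)]
            exact (Finset.card_le_univ _).trans (Nat.le_add_left _ _)
      _ = (q - 1) ^ R.card + E.card * n := by
          rw [Finset.sum_add_distrib, Finset.sum_const, card_torus, smul_eq_mul, mul_one, Finset.sum_ite_mem,
            Finset.sum_const, smul_eq_mul, Finset.inter_eq_right.2 (Finset.filter_subset _ _)]
      _ ≤ _ := by
          rw [mul_comm E.card]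
          exact Nat.add_le_add_left (Nat.mul_le_mul_left _ hE) _
  have hlower : ((q - 1) ^ R.card : ℕ) ≤ S := by
    rw [← card_torus, Finset.card_eq_sum_ones]
    exact Finset.sum_le_sum hone
  -- the exact count
  set w : ι → ℕ := fun i => (R.filter fun l => G i l ≠ 0).card with hw
  have hexact : (q : ℤ) * (S : ℤ) = ∑ i, (Q ^ R.card + (-1) ^ w i * Q ^ (R.card + 1 - w i)) := by
    rw [hS, show (fun x => (zset (G *ᵥ x)).card) = fun x => (Finset.univ.filter fun i => (G *ᵥ x) i = 0).card
      from rfl, sum_zeros, Nat.cast_sum, Finset.mul_sum]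
    exact Finset.sum_congr rfl fun i _ => card_zeros R (G i)
  have hwlow : ∀ i, R.card ≤ w i + (zset (G i)).card := fun i => by
    rw [hw, ← Finset.card_filter_add_card_filter_not (s := R) (fun l => G i l ≠ 0)]
    refine Nat.add_le_add_left (Finset.card_le_card fun l hl => ?_) _
    have := (Finset.mem_filter.1 hl).2
    simpa [zset] using this
  have hQ4 : 4 ≤ Q := by
    have : (5 : ℤ) ≤ q := by exact_mod_cast hq5
    linarith
  have hRc : R.card = n - 1 := by omega
  have hterm : ∀ i, |(-1 : ℤ) ^ w i * Q ^ (R.card + 1 - w i)| ≤ Q ^ 2 := fun i => by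
    have := hwlow i
    have : (zset (G i)).card = 1 := zset_card_row H hg hmon i
    rw [abs_mul, abs_pow, abs_neg, abs_one, one_pow, one_mul, abs_pow, abs_of_nonneg (by linarith)]
    exact pow_le_pow_right₀ (by linarith) (by omega)
  have hlo : (n : ℤ) * (Q ^ R.card - Q ^ 2) ≤ q * S := by
    rw [hexact, hn_def, ← Finset.card_univ, ← nsmul_eq_mul, ← Finset.sum_const]
    exact Finset.sum_le_sum fun i _ => by linarith [(abs_le.1 (hterm i)).1]
  have hhi : (q : ℤ) * S ≤ (n : ℤ) * (Q ^ R.card + Q ^ 2) := by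
    rw [hexact, hn_def, ← Finset.card_univ, ← nsmul_eq_mul, ← Finset.sum_const]
    exact Finset.sum_le_sum fun i _ => by linarith [(abs_le.1 (hterm i)).2]
  have hQcast : ((q - 1 : ℕ) : ℤ) = Q := by
    rw [Nat.cast_sub (by omega)]; simp [hQ]
  have hlowerZ : Q ^ R.card ≤ (S : ℤ) := by
    have := (Nat.cast_le (α := ℤ)).2 hlower
    simpa [hQcast] using this
  obtain ⟨e, he⟩ : ∃ e, n = e + 6 := ⟨n - 6, by omega⟩
  have hRe : R.card = e + 5 := by omega
  have hq' : (q : ℤ) = Q + 1 := by rw [hQ]; ring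
  have hne : (n : ℤ) = (e : ℤ) + 6 := by exact_mod_cast he
  have hmid : ((e : ℤ) + 6) ^ 2 + ((e : ℤ) + 6) ^ 3 < Q ^ 4 * Q ^ e := by
    calc ((e : ℤ) + 6) ^ 2 + ((e : ℤ) + 6) ^ 3 < 256 * 4 ^ e := by exact_mod_cast lt_four_pow e
      _ ≤ Q ^ 4 * Q ^ e := mul_le_mul
          (by
            calc (256 : ℤ) = 4 ^ 4 := by norm_num
              _ ≤ Q ^ 4 := pow_le_pow_left₀ (by norm_num) hQ4 4)
          (pow_le_pow_left₀ (by norm_num) hQ4 e) (by positivity) (by positivity)
  rcases lt_trichotomy q n with hlt | hqn' | hgt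
  · have h2 := (Nat.cast_le (α := ℤ)).2 hupper
    push_cast [hQcast] at h2
    rw [hRe, pow_add] at hlo h2
    rw [hq'] at hlo
    have hA := hlo.trans (mul_le_mul_of_nonneg_left h2 (by linarith : (0 : ℤ) ≤ Q + 1))
    have hle : Q + 2 ≤ n := by
      have : (q : ℤ) + 1 ≤ n := by exact_mod_cast hlt
      linarith
    rw [← hne] at hmid
    have h1 : Q ^ e * Q ^ 5 ≤ ((n : ℤ) - (Q + 1)) * (Q ^ e * Q ^ 5) :=
      le_mul_of_one_le_left (by positivity) (by linarith)
    have h3 : Q * ((n : ℤ) ^ 2 + (n : ℤ) ^ 3) < Q * (Q ^ 4 * Q ^ e) := mul_lt_mul_of_pos_left hmid (by linarith)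
    have h4 : (n : ℤ) * Q ^ 2 + (Q + 1) * ((n : ℤ) * ((n : ℤ) * Q)) ≤ Q * ((n : ℤ) ^ 2 + (n : ℤ) ^ 3) := by
      have h5 : Q * ((n : ℤ) * Q + (Q + 1) * (n : ℤ) ^ 2) ≤ Q * ((n : ℤ) ^ 2 + (n : ℤ) ^ 3) := by
        refine mul_le_mul_of_nonneg_left ?_ (by linarith)
        nlinarith
      linarith
    linarith
  swap
  · rw [hRe, pow_add] at hhi hlowerZ
    rw [hq'] at hhi
    have hA := (mul_le_mul_of_nonneg_left hlowerZ (by linarith : (0 : ℤ) ≤ Q + 1)).trans hhi
    have hle : (n : ℤ) ≤ Q := by
      have : (n : ℤ) + 1 ≤ q := by exact_mod_cast hgt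
      linarith
    rw [← hne] at hmid
    have h1 : Q ^ e * Q ^ 5 ≤ ((Q + 1) - (n : ℤ)) * (Q ^ e * Q ^ 5) :=
      le_mul_of_one_le_left (by positivity) (by linarith)
    have h3 : Q * ((n : ℤ) ^ 2 + (n : ℤ) ^ 3) < Q * (Q ^ 4 * Q ^ e) := mul_lt_mul_of_pos_left hmid (by linarith)
    have h4 : (n : ℤ) * Q ^ 2 ≤ (Q ^ e * Q ^ 5) - 1 := by
      have : (n : ℤ) * Q < Q ^ 4 * Q ^ e := by
        calc (n : ℤ) * Q ≤ Q * Q := mul_le_mul_of_nonneg_right hle (by linarith)
          _ = Q ^ 2 * 1 := by ring
          _ < Q ^ 4 * Q ^ e := mul_lt_mul (pow_lt_pow_right₀ (by linarith) (by norm_num))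
              (one_le_pow₀ (by linarith)) one_pos (by positivity)
      nlinarith
    linarith
  have hn : 13 ≤ n := hqn.resolve_right (fun h => h hqn')
  -- as many points as coordinates: exact weights
  have hrow : ∀ i, ∃ z, G i z = 0 ∧ ∀ l, G i l = 0 → l = z := fun i => by
    obtain ⟨z, hz⟩ := Finset.card_eq_one.1 (zset_card_row H hg hmon i)
    refine ⟨z, ?_, fun l hl => ?_⟩
    · have := Finset.mem_singleton_self z
      rw [← hz] at this
      simpa [zset] using this
    · have : l ∈ zset (G i) := by simp [zset, hl]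
      rwa [hz, Finset.mem_singleton] at this
  choose zp hzp hzp' using hrow
  have hzinj : Function.Injective zp := by
    intro i i' hii
    obtain ⟨z, hz⟩ := Finset.card_eq_one.1 (zset_card_col H hg hmon (zp i))
    have m1 : i ∈ zset fun x => G x (zp i) := by simp [zset, hzp i]
    have m2 : i' ∈ zset fun x => G x (zp i) := by simp [zset, hii, hzp i']
    rw [hz, Finset.mem_singleton] at m1 m2
    rw [m1, m2]
  have hzbij : Function.Bijective zp := Finite.injective_iff_bijective.1 hzinj
  have hRerase : R = Finset.univ.erase r₀ := by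
    refine Finset.eq_of_subset_of_card_le (fun i hi => ?_) ?_
    · simp only [hR, Finset.mem_filter] at hi
      simp only [Finset.mem_erase, Finset.mem_univ, and_true]
      exact fun e => hi.2 (e ▸ hr₀')
    · rw [Finset.card_erase_of_mem (Finset.mem_univ _), Finset.card_univ]
      omega
  obtain ⟨i₀, hi₀⟩ := hzbij.2 r₀
  have hnQ : (n : ℤ) = Q + 1 := by rw [← hqn']; exact hq'
  have hQ12 : 12 ≤ Q := by
    have : (13 : ℤ) ≤ n := by exact_mod_cast hn
    linarith
  rcases Nat.even_or_odd n with heven | hodd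
  swap
  · have hwi : ∀ i, w i = if i = i₀ then n - 1 else n - 2 := fun i => by
      have e : (R.filter fun l => G i l ≠ 0) = R.erase (zp i) := by
        ext l
        simp only [Finset.mem_filter, Finset.mem_erase]
        exact ⟨fun ⟨h1, h2⟩ => ⟨fun e => h2 (e ▸ hzp i), h1⟩, fun ⟨h1, h2⟩ => ⟨h2, fun h => h1 (hzp' i l h)⟩⟩
      show (R.filter fun l => G i l ≠ 0).card = _
      rw [e]
      split_ifs with h
      · rw [h, hi₀, Finset.erase_eq_of_notMem (by simp [hRerase]), hRc]
      · rw [Finset.card_erase_of_mem, hRc]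
        · omega
        · rw [hRerase]
          simp only [Finset.mem_erase, Finset.mem_univ, and_true]
          exact fun e => h (hzinj (e.trans hi₀.symm))
    obtain ⟨t, ht⟩ := hodd
    have hterm' : ∀ i, Q ^ R.card + (-1) ^ w i * Q ^ (R.card + 1 - w i) =
        (Q ^ R.card - Q ^ 2) + if i = i₀ then Q + Q ^ 2 else 0 := fun i => by
      rw [hwi]
      split_ifs with h
      · rw [show R.card + 1 - (n - 1) = 1 by omega, show n - 1 = 2 * t by omega, pow_mul, neg_one_sq, one_pow]
        ring
      · rw [show R.card + 1 - (n - 2) = 2 by omega, show n - 2 = 2 * (t - 1) + 1 by omega, pow_succ, pow_mul,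
          neg_one_sq, one_pow]
        ring
    rw [Finset.sum_congr rfl (fun i _ => hterm' i), Finset.sum_add_distrib, Finset.sum_const,
      Finset.sum_ite_eq' Finset.univ i₀, if_pos (Finset.mem_univ _), Finset.card_univ, ← hn_def, nsmul_eq_mul,
      hq', hnQ] at hexact
    have h1 := mul_le_mul_of_nonneg_left hlowerZ (show (0 : ℤ) ≤ Q + 1 by linarith)
    rw [hexact] at h1
    nlinarith
  -- even: merge two coordinates
  obtain ⟨j, hj⟩ := Stab.exists_not_mem (s := ({r₀} : Finset ι)) (by simp; omega)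
  obtain ⟨l, hl⟩ := Stab.exists_not_mem (s := ({r₀, j} : Finset ι)) (by
    have := Finset.card_le_two (a := r₀) (b := j); omega)
  simp only [Finset.mem_insert, Finset.mem_singleton, not_or] at hj hl
  obtain ⟨ij, hij⟩ := hzbij.2 j
  obtain ⟨il, hil⟩ := hzbij.2 l
  set bad : Finset F := insert 0 (((Finset.univ.erase ij).erase il).image fun i => -(G i j) / G i l)
  obtain ⟨μ, hμ⟩ : ∃ μ : F, μ ∉ bad := by
    by_contra hno
    push Not at hno
    have h1 : q ≤ bad.card := Finset.card_le_card fun μ _ => hno μ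
    have h2 := (Finset.card_insert_le (0 : F)
      (((Finset.univ.erase ij).erase il).image fun i => -(G i j) / G i l))
    have h3 := Finset.card_image_le (s := (Finset.univ.erase ij).erase il) (f := fun i => -(G i j) / G i l)
    have hne : il ≠ ij := fun e => hl.2 (by rw [← hil, ← hij, e])
    rw [Finset.card_erase_of_mem (by simp [hne]), Finset.card_erase_of_mem (Finset.mem_univ _),
      Finset.card_univ] at h3
    have h1' : q ≤ (insert (0 : F) (((Finset.univ.erase ij).erase il).image fun i => -(G i j) / G i l)).card := h1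
    omega
  have hμ0 : μ ≠ 0 := fun e => hμ (by rw [e]; exact Finset.mem_insert_self _ _)
  set R' := R.erase l with hR'
  have hR'c : R'.card = n - 2 := by
    rw [hR', Finset.card_erase_of_mem (by rw [hRerase]; simp [hl.1]), hRc]; omega
  have hjR' : j ∈ R' := by rw [hR', hRerase]; simp [hj, Ne.symm hl.2]
  let A : Matrix ι ι F := fun i k => G i k + if k = j then μ * G i l else 0
  have hemb : ∀ y ∈ torus F R', (y + Pi.single l (μ * y j)) ∈ torus F R ∧
      G *ᵥ (y + Pi.single l (μ * y j)) = A *ᵥ y := by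
    intro y hy
    rw [mem_torus] at hy
    constructor
    · rw [mem_torus]
      intro i
      by_cases hil' : i = l
      · subst hil'
        have hyi : y i = 0 := by
          by_contra h
          simpa [hR'] using (hy i).1 h
        simp [hyi, hμ0, (hy j).2 hjR', hRerase, hl.1]
      · simp [hil', hy i, hR']
    · funext i
      have hA : (A *ᵥ y) i = (G *ᵥ y) i + μ * G i l * y j := by
        simp [A, mulVec, dotProduct, add_mul, Finset.sum_add_distrib, Finset.sum_ite_eq']
      rw [hA, mulVec_add, Pi.add_apply, mulVec_single, Pi.smul_apply, Matrix.col_apply, op_smul_eq_smul,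
        smul_eq_mul]
      ring
  set w' : ι → ℕ := fun i => (R'.filter fun k => A i k ≠ 0).card
  have hwi : ∀ i, w' i = if i = i₀ ∨ i = ij ∨ i = il then n - 2 else n - 3 := fun i => by
    have hAj : A i j ≠ 0 := by
      show G i j + (if j = j then μ * G i l else 0) ≠ 0
      rw [if_pos rfl]
      intro h0
      by_cases hl0 : G i l = 0
      · rw [hl0, mul_zero, add_zero] at h0
        exact hl.2 ((hzp' i l hl0).trans (hzp' i j h0).symm)
      by_cases hij' : i = ij
      · rw [hij', show G ij j = 0 by rw [← hij]; exact hzp ij, zero_add] at h0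
        rw [hij'] at hl0
        exact mul_ne_zero hμ0 hl0 h0
      have hil' : i ≠ il := fun e => hl0 (by rw [e, ← hil]; exact hzp il)
      refine hμ (Finset.mem_insert_of_mem (Finset.mem_image.2 ⟨i, by simp [hij', hil'], ?_⟩))
      rw [div_eq_iff hl0]
      linear_combination -h0
    have hAk : ∀ k, k ≠ j → A i k = G i k := fun k hk => by simp [A, hk]
    show (R'.filter fun k => A i k ≠ 0).card = _
    split_ifs with h
    · rw [Finset.filter_true_of_mem, hR'c]
      intro k hk
      by_cases hkj : k = j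
      · rw [hkj]; exact hAj
      rw [hAk k hkj]
      intro h0
      have hk' := hzp' i k h0
      simp only [hR', hRerase, Finset.mem_erase] at hk
      rcases h with rfl | rfl | rfl
      · exact hk.2.1 (hk'.trans hi₀)
      · exact hkj (hk'.trans hij)
      · exact hk.1 (hk'.trans hil)
    · push Not at h
      have e : (R'.filter fun k => A i k ≠ 0) = R'.erase (zp i) := by
        ext k
        simp only [Finset.mem_filter, Finset.mem_erase]
        constructor
        · rintro ⟨h1, h2⟩
          refine ⟨fun e => ?_, h1⟩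
          have hne : zp i ≠ j := fun e' => h.2.1 (hzinj (e'.trans hij.symm))
          rw [e, hAk _ hne] at h2
          exact h2 (hzp i)
        · rintro ⟨h1, h2⟩
          refine ⟨h2, ?_⟩
          by_cases hkj : k = j
          · rw [hkj]; exact hAj
          · rw [hAk k hkj]; exact fun h' => h1 (hzp' i k h')
      rw [e, Finset.card_erase_of_mem, hR'c]
      · omega
      · simp only [hR', hRerase, Finset.mem_erase, Finset.mem_univ, and_true]
        exact ⟨fun e => h.2.2 (hzinj (e.trans hil.symm)), fun e => h.1 (hzinj (e.trans hi₀.symm))⟩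
  set S' := ∑ y ∈ torus F R', (Finset.univ.filter fun i => (A *ᵥ y) i = 0).card with hS'
  have hlow' : Q ^ (n - 2) ≤ (S' : ℤ) := by
    have h1 : (torus F R').card ≤ S' := by
      rw [Finset.card_eq_sum_ones]
      refine Finset.sum_le_sum fun y hy => ?_
      obtain ⟨hm, he'⟩ := hemb y hy
      have := hone _ hm
      rwa [he'] at this
    rw [card_torus, hR'c, ← hq_def] at h1
    have := (Nat.cast_le (α := ℤ)).2 h1
    simpa [hQcast] using this
  have hexact' : (q : ℤ) * (S' : ℤ) = ∑ i, (Q ^ R'.card + (-1) ^ w' i * Q ^ (R'.card + 1 - w' i)) := by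
    rw [hS', sum_zeros, Nat.cast_sum, Finset.mul_sum]
    exact Finset.sum_congr rfl fun i _ => card_zeros R' (A i)
  obtain ⟨t, ht⟩ := heven
  have hterm' : ∀ i, Q ^ R'.card + (-1) ^ w' i * Q ^ (R'.card + 1 - w' i) =
      (Q ^ (n - 2) - Q ^ 2) + if i ∈ ({i₀, ij, il} : Finset ι) then Q + Q ^ 2 else 0 := fun i => by
    rw [hwi, hR'c]
    simp only [Finset.mem_insert, Finset.mem_singleton]
    split_ifs with h
    · rw [show n - 2 + 1 - (n - 2) = 1 by omega, show n - 2 = 2 * (t - 1) by omega, pow_mul (-1 : ℤ),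
        neg_one_sq, one_pow]
      ring
    · rw [show n - 2 + 1 - (n - 3) = 2 by omega, show n - 3 = 2 * (t - 2) + 1 by omega, pow_succ (-1 : ℤ),
        pow_mul, neg_one_sq, one_pow]
      ring
  rw [Finset.sum_congr rfl (fun i _ => hterm' i), Finset.sum_add_distrib, Finset.sum_const,
    Finset.sum_ite_mem, Finset.univ_inter, Finset.sum_const, Finset.card_univ, ← hn_def, nsmul_eq_mul,
    nsmul_eq_mul, hq', hnQ] at hexact'
  have h3 : (({i₀, ij, il} : Finset ι).card : ℤ) ≤ 3 := by exact_mod_cast Finset.card_le_three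
  have h1 := mul_le_mul_of_nonneg_left hlow' (show (0 : ℤ) ≤ Q + 1 by linarith)
  rw [hexact'] at h1
  nlinarith [mul_le_mul_of_nonneg_right h3 (show (0 : ℤ) ≤ Q + Q ^ 2 by positivity)]

end Cfsg.Agent.Lib.DecompMax.Final
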