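import Cfsg.Agent.Lib.DecompMax.Stab

/-!
Overgroups of the monomial group in four dimensions on: coordinate lines and columns with two zeros.
-/

set_option autoImplicit false

namespace Cfsg.Agent.Lib.DecompMax.StabFour

open Matrix Cfsg.Agent.Lib.Subspaces.Transvection Cfsg.Agent.Lib.DecompMax.Blocks
  Cfsg.Agent.Lib.DecompMax.Stab

variable {ι : Type} [Fintype ι] [DecidableEq ι] {F : Type*} [Field F]
  {M : Subgroup (GL ι F)} (S : Blocks.Setting id M)
include S

/-- An elementary transvection in the induced group lifts. -/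
theorem off_of_elem [Finite F] (hl : ∃ l : F, l ≠ 0 ∧ l ≠ 1) (hcard : 4 ≤ Fintype.card ι)
    {m : F} (hm0 : m ≠ 0) (hm1 : m * m ≠ 1)
    (hdet : ∀ g ∈ M, (g : Matrix ι ι F).det = 1) {k : ι} (h : Homology.Elem k (Ind M k)) : Off id M := by
  obtain ⟨a, b, c, hab, hak, hbk, hc, hE⟩ := h
  obtain ⟨-, -, z, hz, hrows⟩ := hE
  set E := tv (Pi.single a c) (Pi.single b (1 : F))
  have hEk : (E : Matrix ι ι F) *ᵥ Pi.single k 1 = (1 : F) • Pi.single k 1 := by
    rw [tv_mulVec (by simp [hab]), one_smul]; simp [hbk]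
  obtain ⟨φ, hφk, hzE⟩ := factor one_ne_zero hEk (by rw [hdet z hz, det_tv]) hrows
  by_contra hoff
  obtain ⟨l, hl0, hl1⟩ := hl
  have key : ∀ d : ι → F, (∀ x, d x ≠ 0) → mono d 1 ∈ M → d a = d b →
      (fun x => d k * φ x / d x - φ x) = 0 := by
    intro d hd hdM hdab
    by_contra hne
    refine hoff (off_of_center S ⟨l, hl0, hl1⟩ (by omega) (k := k) (ψ := fun x => d k * φ x / d x - φ x)
      (by simp [hφk]) hne ?_)
    have hcomm : mono d 1 * E * (mono d 1)⁻¹ = E := by
      rw [mul_inv_eq_iff_eq_mul]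
      refine gl_ext fun x => funext fun y => ?_
      rw [gl_mul_mulVec, gl_mul_mulVec, mono_mulVec hd, tv_mulVec (by simp [hab]), tv_mulVec (by simp [hab])]
      by_cases hy : y = a
      · subst hy; simp [mono_mulVec hd, hdab]; ring
      · simp [hy, mono_mulVec hd]
    have h := M.mul_mem (M.inv_mem hz) (M.mul_mem (M.mul_mem hdM hz) (M.inv_mem hdM))
    rw [hzE, show (E * tv (Pi.single k (1 : F)) φ)⁻¹ * (mono d 1 * (E * tv (Pi.single k 1) φ) * (mono d 1)⁻¹) =
      (tv (Pi.single k (1 : F)) φ)⁻¹ * (E⁻¹ * (mono d 1 * E * (mono d 1)⁻¹)) *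
        (mono d 1 * tv (Pi.single k 1) φ * (mono d 1)⁻¹) by group, hcomm, inv_mul_cancel, mul_one,
      mono_conj_tv hd 1 (by simpa using hφk)] at h
    have e : (fun x => d x * (Pi.single k (1 : F) : ι → F) ((1 : Equiv.Perm ι) x)) = d k • Pi.single k 1 :=
      funext fun x => by
        by_cases hx : x = k
        · subst hx; simp
        · simp [hx]
    rw [e, tv_smul (by simp [hφk]), tv_inv (by simpa using hφk),
      tv_mul_center (by simp [hφk]) (by simp [hφk])] at h
    convert h using 2
    funext x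
    simp
    ring
  have hout : ∀ p, p ≠ k → p ≠ a → p ≠ b → φ p = 0 := by
    intro p hpk hpa hpb
    let d : ι → F := Function.update (Function.update (Function.update 1 a m) b m) p (m * m)⁻¹
    have hd : ∀ x, d x ≠ 0 := fun x => by
      by_cases h1 : x = p
      · subst h1; simp [d, hm0]
      by_cases h2 : x = b
      · subst h2; simp [d, h1, hm0]
      by_cases h3 : x = a
      · subst h3; simp [d, h1, h2, hm0]
      simp [d, h1, h2, h3]
    have hprod : ∏ x, d x = 1 := by
      rw [Finset.prod_update_of_mem (Finset.mem_univ p), Finset.prod_update_of_mem (by simpa using Ne.symm hpb),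
        Finset.prod_update_of_mem (by simp [Ne.symm hpa, hab])]
      simp only [Pi.one_apply, Finset.prod_const_one, mul_one]
      field_simp
    have := congrFun (key d hd (S.diag_mem hd hprod) (by simp [d, Ne.symm hpa, Ne.symm hpb, hab])) p
    have hdk : d k = 1 := by simp [d, Ne.symm hpk, Ne.symm hak, Ne.symm hbk]
    have hdp : d p = (m * m)⁻¹ := by simp [d]
    rw [hdk, hdp] at this
    simp only [one_mul, Pi.zero_apply, div_eq_mul_inv, inv_inv] at this
    exact (mul_eq_zero.1 (show φ p * (m * m - 1) = 0 by linear_combination this)).resolve_right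
      (sub_ne_zero.2 hm1)
  have hφ : φ = 0 := by
    funext x
    by_cases hxk : x = k
    · rw [hxk, hφk]; rfl
    obtain ⟨w, hw⟩ := exists_not_mem (s := {k, a, b}) (by
      have := Finset.card_le_three (a := k) (b := a) (c := b); omega)
    simp only [Finset.mem_insert, Finset.mem_singleton, not_or] at hw
    by_cases hxa : x = a ∨ x = b
    · obtain ⟨d, hd, hdM, hdk, -, hd1⟩ := scale_mem S (Ne.symm hw.1) hl0
      have hda : d a = 1 := hd1 a hak (Ne.symm hw.2.1)
      have hdb : d b = 1 := hd1 b hbk (Ne.symm hw.2.2)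
      have := congrFun (key d hd hdM (hda.trans hdb.symm)) x
      have hdx : d x = 1 := by rcases hxa with rfl | rfl <;> assumption
      rw [hdk, hdx] at this
      simp only [div_one, Pi.zero_apply] at this
      exact (mul_eq_zero.1 (show (l - 1) * φ x = 0 by linear_combination this)).resolve_left
        (sub_ne_zero.2 hl1)
    · push Not at hxa
      exact hout x hxk hxa.1 hxa.2
  rw [hφ, tv_zero_right, mul_one] at hzE
  rw [hzE] at hz
  exact hoff ⟨a, b, c, hab, hc, hz⟩

/-- The stabiliser of a coordinate line is monomial. -/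
theorem mon_of_fix [Finite F] (hF : 5 ≤ Nat.card F) (hcard : 4 ≤ Fintype.card ι)
    (hdet : ∀ g ∈ M, (g : Matrix ι ι F).det = 1) (hoff : ¬ Off id M) {m : F} (hm0 : m ≠ 0) (hm1 : m * m ≠ 1)
    {z : GL ι F} (hz : z ∈ M) {k : ι}
    {μ : F} (hcol : (z : Matrix ι ι F) *ᵥ Pi.single k 1 = μ • Pi.single k 1) : BlockMon id z := by
  classical
  obtain ⟨l, hl⟩ : ∃ l : F, l ≠ 0 ∧ l ≠ 1 := by
    by_contra hall
    push Not at hall
    haveI := Fintype.ofFinite F
    have hle : (Finset.univ : Finset F) ⊆ {0, 1} := fun c _ => by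
      by_cases h0 : c = 0
      · simp [h0]
      · simp [hall c h0]
    have h2 := (Finset.card_le_card hle).trans Finset.card_le_two
    rw [Finset.card_univ, ← Nat.card_eq_fintype_card] at h2
    omega
  have hμ : μ ≠ 0 := fun e => by
    have := congrFun (gl_mulVec_injective z (show (z : Matrix ι ι F) *ᵥ Pi.single k 1 =
      (z : Matrix ι ι F) *ᵥ 0 by rw [hcol, e, zero_smul, mulVec_zero])) k
    simp at this
  let N : Matrix ι ι F := Matrix.updateRow (z : Matrix ι ι F) k (Pi.single k 1)
  have hNx : ∀ x r, (N *ᵥ x) r = if r = k then x k else ((z : Matrix ι ι F) *ᵥ x) r := by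
    intro x r
    by_cases hr : r = k
    · subst hr; simp [N, mulVec]
    · simp [N, mulVec, Matrix.updateRow_ne, hr]
  have hinj : Function.Injective fun x => N *ᵥ x := by
    intro x y hxy
    have h0 : N *ᵥ (x - y) = 0 := by rw [mulVec_sub]; exact sub_eq_zero.2 hxy
    have hk : (x - y) k = 0 := by simpa [hNx] using congrFun h0 k
    have hzv : (z : Matrix ι ι F) *ᵥ (x - y) =
        (z : Matrix ι ι F) *ᵥ ((((z : Matrix ι ι F) *ᵥ (x - y)) k / μ) • Pi.single k 1) := by
      rw [mulVec_smul, hcol, smul_smul, div_mul_cancel₀ _ hμ]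
      funext r
      by_cases hr : r = k
      · subst hr; simp
      · have := congrFun h0 r
        rw [hNx, if_neg hr] at this
        simp [hr, this]
    have h1 := gl_mulVec_injective z hzv
    rw [h1] at hk
    simp only [Pi.smul_apply, Pi.single_eq_same, smul_eq_mul, mul_one] at hk
    rw [hk, zero_smul, sub_eq_zero] at h1
    exact h1
  obtain ⟨A, hA⟩ := Matrix.mulVec_injective_iff_isUnit.1 hinj
  have hAk : (A : Matrix ι ι F) *ᵥ Pi.single k 1 = Pi.single k 1 := by
    rw [hA]
    funext r
    rw [hNx]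
    by_cases hr : r = k
    · subst hr; simp
    · rw [if_neg hr, hcol]; simp [hr]
  have hAmem : A ∈ Ind M k := by
    refine ⟨hAk, ?_, z, hz, fun r hr c => by rw [hA]; simp [N, Matrix.updateRow_ne, hr]⟩
    rw [hA]
    funext c
    simp [N, single_one_vecMul]
  rcases Homology.mon_or_elem (ind_setting S k) hF (by omega) hAmem with hmon | hel
  swap
  · exact absurd (off_of_elem S ⟨l, hl⟩ hcard hm0 hm1 hdet hel) hoff
  obtain ⟨σ, hσ⟩ := hmon
  set d₀ : ι → F := fun r => (A : Matrix ι ι F) r (σ.symm r)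
  have hd₀ : ∀ r, d₀ r ≠ 0 := fun r h => by
    have h1 : ((A : Matrix ι ι F) * ((A⁻¹ : GL ι F) : Matrix ι ι F)) r r = 1 := by
      rw [← Units.val_mul, mul_inv_cancel]; simp
    rw [Matrix.mul_apply] at h1
    obtain ⟨j, -, hj⟩ := Finset.exists_ne_zero_of_sum_ne_zero (by rw [h1]; exact one_ne_zero)
    have hrj : r = σ j := hσ r j (left_ne_zero_of_mul hj)
    refine left_ne_zero_of_mul hj ?_
    rw [show j = σ.symm r by rw [hrj, σ.symm_apply_apply]]
    exact h
  have hAr : ∀ r c, (A : Matrix ι ι F) r c = if σ.symm r = c then d₀ r else 0 := by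
    intro r c
    by_cases h : σ.symm r = c
    · rw [if_pos h, ← h]
    · rw [if_neg h]
      by_contra hne
      have hrc : r = σ c := hσ r c hne
      exact h (by rw [hrc, σ.symm_apply_apply])
  have hσk : σ.symm k = k := by
    by_contra hne
    have h1 := congrFun hAk k
    rw [mulVec_single_one, Matrix.col_apply, hAr, if_neg hne] at h1
    simp at h1
  obtain ⟨d, hd, hz₀, hdeq⟩ := exists_lift S k hd₀ σ.symm
  have hcol₀ : (mono d σ.symm : Matrix ι ι F) *ᵥ Pi.single k 1 = d k • Pi.single k 1 := by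
    funext r
    rw [mono_mulVec hd]
    by_cases hr : r = k
    · subst hr; simp [hσk]
    · simp [hr, show σ.symm r ≠ k from fun h => hr (σ.symm.injective (h.trans hσk.symm))]
  obtain ⟨φ, hφk, hzeq⟩ := factor (z := z) (z₀ := mono d σ.symm) (hd k) hcol₀
    (by rw [hdet z hz, hdet _ hz₀]) (fun r hr c => by
      rw [mono_apply hd, hdeq r hr, ← hAr, hA]
      simp [N, Matrix.updateRow_ne, hr])
  have hφ : φ = 0 := by
    by_contra hne
    refine hoff (off_of_center S ⟨l, hl⟩ (by omega) hφk hne ?_)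
    have := M.mul_mem (M.inv_mem hz₀) hz
    rwa [hzeq, inv_mul_cancel_left] at this
  rw [hφ, tv_zero_right, mul_one] at hzeq
  rw [hzeq]
  exact blockMon_mono hd σ.symm fun r => rfl

end Cfsg.Agent.Lib.DecompMax.StabFour
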