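import Cfsg.Agent.Lib.DecompMax.Supports
import Cfsg.Agent.Lib.DecompMax.Count
import Cfsg.Agent.Lib.DecompMax.StabFour

/-!
Overgroups of the monomial group in four dimensions over seven elements or more are monomial or everything.
-/

set_option autoImplicit false

namespace Cfsg.Agent.Lib.DecompMax.Four

open Matrix Cfsg.Agent.Lib.Subspaces.Transvection Cfsg.Agent.Lib.DecompMax.Blocks
  Cfsg.Agent.Lib.DecompMax.Supports

variable {ι : Type} [Fintype ι] [DecidableEq ι] {F : Type*} [Field F]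

theorem perm_cases : ∀ (j : Fin 4) (a b : Equiv.Perm (Fin 4)), a j = j → b j = j → a * a = 1 → b * b = 1 →
    a * b = b * a → a = 1 ∨ b = 1 ∨ a = b := by
  decide +kernel

/-- The running hypotheses in four dimensions. -/
structure Hyp (M : Subgroup (GL ι F)) : Prop where
  setting : Blocks.Setting id M
  det : ∀ g ∈ M, (g : Matrix ι ι F).det = 1
  card : Fintype.card ι = 4
  seven : 7 ≤ Nat.card F
  off : ¬ Off id M

section Stab

variable [Finite F] {M : Subgroup (GL ι F)} (H : Hyp M)
include H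

theorem five : 5 ≤ Nat.card F := le_trans (by norm_num) H.seven

theorem exists_sq : ∃ m : F, m ≠ 0 ∧ m * m ≠ 1 := by
  classical
  by_contra hc
  push Not at hc
  haveI := Fintype.ofFinite F
  have hle : (Finset.univ : Finset F) ⊆ {0, 1, -1} := fun c _ => by
    by_cases h0 : c = 0
    · simp [h0]
    · rcases mul_self_eq_one_iff.1 (hc c h0) with h | h <;> simp [h]
  have h3 := (Finset.card_le_card hle).trans Finset.card_le_three
  rw [Finset.card_univ, ← Nat.card_eq_fintype_card] at h3
  have := H.seven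
  omega

theorem mon_of_fix {z : GL ι F} (hz : z ∈ M) {k : ι} {μ : F}
    (hcol : (z : Matrix ι ι F) *ᵥ Pi.single k 1 = μ • Pi.single k 1) : BlockMon id z := by
  obtain ⟨m, hm0, hm1⟩ := exists_sq H
  exact StabFour.mon_of_fix H.setting (five H) H.card.ge H.det H.off hm0 hm1 hz hcol

/-- An element mapping a coordinate line to a coordinate line is monomial. -/
theorem mon_of_line {g : GL ι F} (hg : g ∈ M) {i p : ι} {μ : F}
    (h : (g : Matrix ι ι F) *ᵥ Pi.single i 1 = μ • Pi.single p 1) : BlockMon id g := by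
  have hcard := H.card
  obtain ⟨w, -⟩ := Stab.exists_not_mem (s := ({i} : Finset ι)) (by simp; omega)
  obtain ⟨d, hd, hdM, -⟩ := Stab.exists_lift H.setting w (d := (1 : ι → F)) (fun _ => one_ne_zero)
    (Equiv.swap i p)
  have hfix : ((mono d (Equiv.swap i p) * g : GL ι F) : Matrix ι ι F) *ᵥ Pi.single i 1 =
      (μ * d i) • Pi.single i 1 := by
    rw [gl_mul_mulVec, h, mulVec_smul]
    funext l
    rw [Pi.smul_apply, mono_mulVec hd, Pi.smul_apply, smul_eq_mul, smul_eq_mul]
    by_cases hl : l = i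
    · subst hl; simp
    · rw [Pi.single_eq_of_ne hl, Pi.single_eq_of_ne]
      · ring
      · intro e
        exact hl ((Equiv.swap i p).injective (by rw [e, Equiv.swap_apply_left]))
  have h1 := mon_of_fix H (M.mul_mem hdM hg) hfix
  have h2 := blockMon_mul (blockMon_inv (blockMon_mono (β := id) hd (Equiv.swap i p) fun _ => rfl)) h1
  rwa [inv_mul_cancel_left] at h2

theorem col_two_zeros {g : GL ι F} (hg : g ∈ M) {j p w : ι} (hpw : p ≠ w)
    (hp : (g : Matrix ι ι F) p j = 0) (hw : (g : Matrix ι ι F) w j = 0) : BlockMon id g := by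
  by_contra hnm
  refine hnm ?_
  have hcard := H.card
  have hF := H.seven
  haveI := Fintype.ofFinite F
  obtain ⟨u, hu⟩ := IsCyclic.exists_generator (α := Fˣ)
  have hord : orderOf u = Nat.card F - 1 := by
    rw [orderOf_eq_card_of_forall_mem_zpowers hu, Nat.card_units]
  set l : F := (u : F)
  have hl0 : l ≠ 0 := u.ne_zero
  have hlpow : ∀ m : ℕ, 0 < m → m ≤ 3 → l ^ m ≠ 1 := fun m hm hm4 h => by
    have h' : u ^ m = 1 := Units.ext (by simpa [l] using h)
    have := Nat.le_of_dvd hm (orderOf_dvd_of_pow_eq_one h')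
    omega
  obtain ⟨d, hd, hdM, hdp, hdw, hd1⟩ := Stab.scale_mem H.setting hpw hl0
  set D := mono d 1
  have hDx : ∀ (x : ι → F) y, ((D : Matrix ι ι F) *ᵥ x) y = d y * x y := fun x y => by simp [D, mono_mulVec hd]
  set h := g⁻¹ * D * g
  have hh : h ∈ M := M.mul_mem (M.mul_mem (M.inv_mem hg) hdM) hg
  have hfixed : (h : Matrix ι ι F) *ᵥ Pi.single j 1 = (1 : F) • Pi.single j 1 := by
    rw [one_smul, gl_mul_mulVec, gl_mul_mulVec]
    have : (D : Matrix ι ι F) *ᵥ ((g : Matrix ι ι F) *ᵥ Pi.single j 1) = (g : Matrix ι ι F) *ᵥ Pi.single j 1 := by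
      funext y
      rw [hDx, mulVec_single_one, Matrix.col_apply]
      by_cases h1 : y = p
      · rw [h1, hp, mul_zero]
      by_cases h2 : y = w
      · rw [h2, hw, mul_zero]
      rw [hd1 y h1 h2, one_mul]
    rw [this, gl_inv_mulVec]
  obtain ⟨σ, hσ⟩ := mon_of_fix H hh hfixed
  replace hσ : ∀ a b, (h : Matrix ι ι F) a b ≠ 0 → a = σ b := hσ
  set c : ι → F := fun i => (h : Matrix ι ι F) (σ i) i
  have hc : ∀ i, c i ≠ 0 := mon_entry_ne hσ
  have happ : ∀ i, (h : Matrix ι ι F) *ᵥ Pi.single i 1 = c i • Pi.single (σ i) 1 := fun i => by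
    funext a
    obtain ⟨b, rfl⟩ := σ.surjective a
    rw [mon_mulVec hσ]
    by_cases hb : b = i
    · subst hb; simp [c]
    · simp [hb]
  have hconj : ∀ x, (g : Matrix ι ι F) *ᵥ ((h : Matrix ι ι F) *ᵥ x) =
      (D : Matrix ι ι F) *ᵥ ((g : Matrix ι ι F) *ᵥ x) := fun x => by
    rw [gl_mul_mulVec, gl_mul_mulVec, gl_mulVec_inv]
  set s := 1 + l + l⁻¹
  have hdroot : ∀ y, d y ^ 3 - s * d y ^ 2 + s * d y - 1 = 0 := fun y => by
    by_cases h1 : y = p
    · rw [h1, hdp]; simp only [s]; field_simp; ring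
    by_cases h2 : y = w
    · rw [h2, hdw]; simp only [s]; field_simp; ring
    rw [hd1 y h1 h2]; ring
  have hcubic : ∀ x : ι → F,
      (h : Matrix ι ι F) *ᵥ ((h : Matrix ι ι F) *ᵥ ((h : Matrix ι ι F) *ᵥ x))
        - s • ((h : Matrix ι ι F) *ᵥ ((h : Matrix ι ι F) *ᵥ x)) + s • ((h : Matrix ι ι F) *ᵥ x) - x = 0 := by
    intro x
    refine gl_mulVec_injective g ?_
    show (g : Matrix ι ι F) *ᵥ _ = (g : Matrix ι ι F) *ᵥ 0
    rw [mulVec_zero]
    simp only [mulVec_sub, mulVec_add, mulVec_smul, hconj]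
    funext y
    simp only [Pi.sub_apply, Pi.add_apply, Pi.smul_apply, smul_eq_mul, hDx, Pi.zero_apply]
    linear_combination ((g : Matrix ι ι F) *ᵥ x) y * hdroot y
  have hfix : ∀ i, σ i = i := by
    intro i
    by_contra hne
    have h3 := hcubic (Pi.single i 1)
    simp only [happ, mulVec_smul, smul_smul] at h3
    have hne2 : σ (σ i) ≠ σ i := fun e => hne (σ.injective e)
    have hne3 : σ (σ (σ i)) ≠ σ (σ i) := fun e => hne2 (σ.injective e)
    have hi := congrFun h3 i
    have h1 := congrFun h3 (σ i)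
    by_cases h2 : σ (σ i) = i
    · rw [h2] at hi h1
      simp [hne, Ne.symm hne] at hi h1
      have hsum : c i * c (σ i) + s = 0 := by
        refine mul_left_cancel₀ (hc i) ?_
        linear_combination h1
      have hs1 : (s - 1) * (s + 1) = 0 := by linear_combination hi + s * hsum
      rcases mul_eq_zero.1 hs1 with h' | h'
      · have hl4 : l ^ 4 = 1 := by
          have h'' := h'
          simp only [s] at h''
          field_simp at h''
          linear_combination (l ^ 2 - 1) * h''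
        have h5 : Nat.card F = 5 := by
          have h'' : u ^ 4 = 1 := Units.ext (by simpa [l] using hl4)
          have := Nat.le_of_dvd (by norm_num) (orderOf_dvd_of_pow_eq_one h'')
          omega
        omega
      · refine hlpow 2 (by norm_num) (by norm_num) ?_
        simp only [s] at h'
        field_simp at h'
        have h'' : (l + 1) ^ 2 = 0 := by linear_combination h'
        linear_combination (l - 1) * (pow_eq_zero_iff (n := 2) (by norm_num)).1 h''
    · by_cases h3' : σ (σ (σ i)) = i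
      · rw [h3'] at h1
        simp [hne, Ne.symm hne2, Ne.symm h2] at h1
        have hs0 : s = 0 := h1.resolve_right (hc i)
        refine hlpow 3 (by norm_num) (by norm_num) ?_
        simp only [s] at hs0
        field_simp at hs0
        linear_combination (l - 1) * hs0
      · have hlast := congrFun h3 (σ (σ (σ i)))
        have hne13 : σ (σ (σ i)) ≠ σ i := fun e => h2 (σ.injective e)
        simp [hne3, hne13, h3', hc] at hlast
  obtain ⟨i, hi⟩ : ∃ i, c i = l := by
    by_contra hno
    push Not at hno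
    have hquad : ∀ x : ι → F, (h : Matrix ι ι F) *ᵥ ((h : Matrix ι ι F) *ᵥ x)
        - (1 + l⁻¹) • ((h : Matrix ι ι F) *ᵥ x) + l⁻¹ • x = 0 := by
      intro x
      funext i
      have e : ∀ z : ι → F, ((h : Matrix ι ι F) *ᵥ z) i = c i * z i := fun z => by
        have := mon_mulVec hσ z i
        rw [hfix i] at this
        rw [this]; simp [c, hfix i]
      simp only [Pi.sub_apply, Pi.add_apply, Pi.smul_apply, smul_eq_mul, e, Pi.zero_apply]
      have hroot := congrFun (hcubic (Pi.single i 1)) i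
      simp only [Pi.sub_apply, Pi.add_apply, Pi.smul_apply, smul_eq_mul, e, Pi.single_eq_same, Pi.zero_apply]
        at hroot
      have hfac : (c i - l) * (c i * c i - (1 + l⁻¹) * c i + l⁻¹) = 0 := by
        simp only [s] at hroot
        linear_combination hroot - (1 - c i) * mul_inv_cancel₀ hl0
      linear_combination x i * (mul_eq_zero.1 hfac).resolve_left (sub_ne_zero.2 (hno i))
    have := congrArg (fun z => ((g : Matrix ι ι F) *ᵥ z) p)
      (hquad (((g⁻¹ : GL ι F) : Matrix ι ι F) *ᵥ Pi.single p 1))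
    simp only [mulVec_sub, mulVec_add, mulVec_smul, hconj, gl_mulVec_inv, mulVec_zero, Pi.sub_apply,
      Pi.add_apply, Pi.smul_apply, smul_eq_mul, hDx, Pi.single_eq_same, hdp, Pi.zero_apply] at this
    refine hlpow 2 (by norm_num) (by norm_num) ?_
    field_simp at this
    have h' : (l - 1) * (l ^ 2 - 1) = 0 := by linear_combination this
    rcases mul_eq_zero.1 h' with h1 | h1
    · linear_combination (l + 1) * h1
    · linear_combination h1
  refine mon_of_line H hg (i := i) (p := p) (μ := ((g : Matrix ι ι F) *ᵥ Pi.single i 1) p) ?_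
  funext y
  by_cases hy : y = p
  · subst hy; simp
  have h1 := congrFun (hconj (Pi.single i 1)) y
  rw [happ, hfix, hi, mulVec_smul, Pi.smul_apply, smul_eq_mul, hDx] at h1
  have hne : d y ≠ l := by
    by_cases h2 : y = w
    · rw [h2, hdw]
      intro e
      refine hlpow 2 (by norm_num) (by norm_num) ?_
      field_simp at e
      linear_combination -e
    · rw [hd1 y hy h2]
      exact fun e => hlpow 1 (by norm_num) (by norm_num) (by rw [pow_one, ← e])
  rw [Pi.smul_apply, Pi.single_eq_of_ne hy, smul_zero]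
  exact (mul_eq_zero.1 (show (d y - l) * ((g : Matrix ι ι F) *ᵥ Pi.single i 1) y = 0 by
    linear_combination -h1)).resolve_left (sub_ne_zero.2 hne)

end Stab

section Main

variable [Finite F] {M : Subgroup (GL (Fin 4) F)} (H : Hyp M)
include H

/-- A column without zeros: impossible. -/
theorem col_exists_zero {g : GL (Fin 4) F} (hg : g ∈ M) (j : Fin 4) :
    ∃ p, (g : Matrix (Fin 4) (Fin 4) F) p j = 0 := by
  classical
  haveI := Fintype.ofFinite F
  by_contra hno
  push Not at hno
  set G := (g : Matrix (Fin 4) (Fin 4) F) with hG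
  set a : Fin 4 → F := fun l => G l j with ha
  have ha0 : ∀ l, a l ≠ 0 := hno
  let d : alternatingGroup (Fin 4) → Fin 4 → F := fun π l => a l / a ((π : Equiv.Perm (Fin 4))⁻¹ l)
  have hd : ∀ π l, d π l ≠ 0 := fun π l => div_ne_zero (ha0 l) (ha0 _)
  let ψ : alternatingGroup (Fin 4) →* GL (Fin 4) F :=
    { toFun := fun π => mono (d π) (π : Equiv.Perm (Fin 4))⁻¹
      map_one' := gl_ext fun x => funext fun l => by
        rw [mono_mulVec (hd 1)]
        simp only [d, OneMemClass.coe_one, inv_one, Equiv.Perm.coe_one, id_eq, Units.val_one, one_mulVec]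
        show a l / a l * x l = x l
        rw [div_self (ha0 l), one_mul]
      map_mul' := fun π τ => gl_ext fun x => funext fun l => by
        rw [gl_mul_mulVec, mono_mulVec (hd _), mono_mulVec (hd _), mono_mulVec (hd _)]
        simp only [d, Subgroup.coe_mul, _root_.mul_inv_rev, Equiv.Perm.mul_apply]
        rw [← mul_assoc, div_mul_div_cancel₀ (ha0 _)] }
  have hψM : ∀ π, ψ π ∈ M := fun π => H.setting.mem _ (blockMon_mono (hd π) _ fun _ => rfl) (by
    show (mono (d π) (π : Equiv.Perm (Fin 4))⁻¹ : Matrix (Fin 4) (Fin 4) F).det = 1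
    rw [det_mono (hd π), Equiv.Perm.sign_inv, Equiv.Perm.mem_alternatingGroup.1 π.2]
    simp only [d, Finset.prod_div_distrib]
    rw [Equiv.prod_comp ((π : Equiv.Perm (Fin 4))⁻¹) a, div_self (Finset.prod_ne_zero_iff.2 fun l _ => ha0 l)]
    simp)
  let φ : alternatingGroup (Fin 4) →* GL (Fin 4) F := (MulAut.conj g⁻¹).toMonoidHom.comp ψ
  have hφ : ∀ π, φ π = g⁻¹ * ψ π * g := fun π => by simp [φ, MulAut.conj_apply]
  have hfix : ∀ π, (φ π : Matrix (Fin 4) (Fin 4) F) *ᵥ Pi.single j 1 = Pi.single j 1 := by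
    intro π
    have h1 : G *ᵥ Pi.single j 1 = a := by rw [mulVec_single_one]; rfl
    have h2 : (ψ π : Matrix (Fin 4) (Fin 4) F) *ᵥ a = a := funext fun l => by
      show ((mono (d π) (π : Equiv.Perm (Fin 4))⁻¹ : GL (Fin 4) F) : Matrix (Fin 4) (Fin 4) F).mulVec a l = a l
      rw [mono_mulVec (hd π)]
      exact div_mul_cancel₀ _ (ha0 _)
    rw [hφ, gl_mul_mulVec, gl_mul_mulVec, h1, h2, ← h1, gl_inv_mulVec]
  have hmon : ∀ π, ∃ σ : Equiv.Perm (Fin 4), ∀ x y, (φ π : Matrix (Fin 4) (Fin 4) F) x y ≠ 0 → x = σ y :=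
    fun π => mon_of_fix H (hφ π ▸ M.mul_mem (M.mul_mem (M.inv_mem hg) (hψM π)) hg) (k := j) (μ := 1)
      (by rw [one_smul]; exact hfix π)
  choose τ hτ using hmon
  have huniq : ∀ (π : alternatingGroup (Fin 4)) (σ : Equiv.Perm (Fin 4)),
      (∀ x y, (φ π : Matrix (Fin 4) (Fin 4) F) x y ≠ 0 → x = σ y) → σ = τ π := fun π σ hσ =>
    Equiv.ext fun y => (hσ _ y (mon_entry_ne (hτ π) y)).symm
  let θ : alternatingGroup (Fin 4) →* Equiv.Perm (Fin 4) :=
    { toFun := τ
      map_one' := (huniq 1 1 fun x y h => by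
        by_contra hne
        exact h (by rw [map_one, Units.val_one]; exact Matrix.one_apply_ne hne)).symm
      map_mul' := fun π π' => (huniq _ _ fun x y h => by
        rw [map_mul, Units.val_mul, Matrix.mul_apply] at h
        obtain ⟨z, -, hz⟩ := Finset.exists_ne_zero_of_sum_ne_zero h
        rw [Equiv.Perm.mul_apply, ← hτ π' z y (right_ne_zero_of_mul hz)]
        exact hτ π x z (left_ne_zero_of_mul hz)).symm }
  have hθj : ∀ π, θ π j = j := fun π => by
    have h3 := congrFun (hfix π) j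
    rw [mulVec_single_one, Matrix.col_apply, Pi.single_eq_same] at h3
    exact (hτ π j j (by rw [h3]; exact one_ne_zero)).symm
  -- the four-group goes to diagonal matrices
  let v₁ : alternatingGroup (Fin 4) := ⟨Equiv.swap 0 1 * Equiv.swap 2 3, Equiv.Perm.mem_alternatingGroup.2 (by decide)⟩
  let v₂ : alternatingGroup (Fin 4) := ⟨Equiv.swap 0 2 * Equiv.swap 1 3, Equiv.Perm.mem_alternatingGroup.2 (by decide)⟩
  let ρ : alternatingGroup (Fin 4) := ⟨Equiv.swap 1 2 * Equiv.swap 2 3, Equiv.Perm.mem_alternatingGroup.2 (by decide)⟩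
  have hv₁ : v₁ * v₁ = 1 := by decide
  have hv₂ : v₂ * v₂ = 1 := by decide
  have hvv : v₁ * v₂ = v₂ * v₁ := by decide
  have hρ₁ : ρ * v₁ * ρ⁻¹ = v₂ := by decide
  have hρ₂ : ρ * v₂ * ρ⁻¹ = v₁ * v₂ := by decide
  have key := perm_cases j (θ v₁) (θ v₂) (hθj v₁) (hθj v₂) (by rw [← map_mul, hv₁, map_one])
    (by rw [← map_mul, hv₂, map_one]) (by rw [← map_mul, ← map_mul, hvv])
  have hρ₁' : θ ρ * θ v₁ * (θ ρ)⁻¹ = θ v₂ := by rw [← map_inv, ← map_mul, ← map_mul, hρ₁]
  have hρ₂' : θ ρ * θ v₂ * (θ ρ)⁻¹ = θ v₁ * θ v₂ := by rw [← map_inv, ← map_mul, ← map_mul, hρ₂, map_mul]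
  obtain ⟨ht₁, ht₂⟩ : θ v₁ = 1 ∧ θ v₂ = 1 := by
    have h21 : θ v₂ = 1 → θ v₁ = 1 := fun h => by
      rw [h] at hρ₂'
      simpa using hρ₂'.symm
    rcases key with h | h | h
    · refine ⟨h, ?_⟩
      rw [h] at hρ₁'
      simpa using hρ₁'.symm
    · exact ⟨h21 h, h⟩
    · have h2 : θ v₂ = 1 := by
        have hsq : θ v₁ * θ v₂ = 1 := by rw [h, ← map_mul, hv₂, map_one]
        rw [hsq] at hρ₂'
        exact conj_eq_one_iff.1 hρ₂'
      exact ⟨h21 h2, h2⟩
  have hentry : ∀ v, θ v = 1 → ∀ l k, a l / a ((v : Equiv.Perm (Fin 4))⁻¹ l) *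
      G ((v : Equiv.Perm (Fin 4))⁻¹ l) k = G l k * (φ v : Matrix (Fin 4) (Fin 4) F) k k := by
    intro v hv l k
    have e1 : G * (φ v : Matrix (Fin 4) (Fin 4) F) = (ψ v : Matrix (Fin 4) (Fin 4) F) * G := by
      rw [hG, ← Units.val_mul, ← Units.val_mul, hφ, ← mul_assoc, ← mul_assoc, mul_inv_cancel, one_mul]
    have e2 := congrFun (congrFun e1 l) k
    rw [Matrix.mul_apply, Finset.sum_eq_single k (fun x _ hx => ?_) (by simp)] at e2
    swap
    · by_contra hne
      exact hx (by
        have h1 := hτ v x k (right_ne_zero_of_mul hne)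
        rwa [show τ v = 1 from hv] at h1)
    rw [e2]
    show _ = ((ψ v : Matrix (Fin 4) (Fin 4) F) * G) l k
    rw [show ((ψ v : Matrix (Fin 4) (Fin 4) F) * G) l k =
      ((ψ v : Matrix (Fin 4) (Fin 4) F) *ᵥ (G.col k)) l from rfl]
    show _ = ((mono (d v) (v : Equiv.Perm (Fin 4))⁻¹ : GL (Fin 4) F) : Matrix (Fin 4) (Fin 4) F).mulVec _ l
    rw [mono_mulVec (hd v)]
    rfl
  -- the shape of the matrix
  set ε₁ : Fin 4 → F := fun k => (φ v₁ : Matrix (Fin 4) (Fin 4) F) k k with hε₁d
  set ε₂ : Fin 4 → F := fun k => (φ v₂ : Matrix (Fin 4) (Fin 4) F) k k with hε₂d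
  set c : Fin 4 → F := fun k => G 0 k / a 0 with hc
  have e10 : ∀ k, G 1 k = a 1 * ε₁ k * c k := fun k => by
    have h := hentry v₁ ht₁ 0 k
    rw [show ((v₁ : Equiv.Perm (Fin 4)))⁻¹ 0 = 1 by decide] at h
    simp only [hε₁d, hc]
    field_simp [ha0 0, ha0 1] at h ⊢
    linear_combination h
  have e20 : ∀ k, G 2 k = a 2 * ε₂ k * c k := fun k => by
    have h := hentry v₂ ht₂ 0 k
    rw [show ((v₂ : Equiv.Perm (Fin 4)))⁻¹ 0 = 2 by decide] at h
    simp only [hε₂d, hc]
    field_simp [ha0 0, ha0 2] at h ⊢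
    linear_combination h
  have e30 : ∀ k, G 3 k = a 3 * (ε₁ k * ε₂ k) * c k := fun k => by
    have h := hentry v₁ ht₁ 2 k
    rw [show ((v₁ : Equiv.Perm (Fin 4)))⁻¹ 2 = 3 by decide, e20] at h
    simp only [hε₁d] at h ⊢
    field_simp [ha0 2, ha0 3] at h ⊢
    linear_combination h
  have e00 : ∀ k, G 0 k = a 0 * c k := fun k => by
    simp only [hc]
    rw [mul_div_cancel₀ _ (ha0 0)]
  have hε : ∀ k, (ε₁ k = 1 ∨ ε₁ k = -1) ∧ (ε₂ k = 1 ∨ ε₂ k = -1) := by
    have hsq : ∀ v, v * v = 1 → θ v = 1 → ∀ k, (φ v : Matrix (Fin 4) (Fin 4) F) k k *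
        (φ v : Matrix (Fin 4) (Fin 4) F) k k = 1 := by
      intro v hv hθ k
      have h := congrArg (fun z : GL (Fin 4) F => (z : Matrix (Fin 4) (Fin 4) F) k k)
        (show φ v * φ v = 1 by rw [← map_mul, hv, map_one])
      simp only [Units.val_mul, Units.val_one, Matrix.mul_apply, Matrix.one_apply_eq] at h
      rwa [Finset.sum_eq_single k (fun x _ hx => by
        rw [mul_eq_zero]; left
        by_contra hne
        exact hx (by
          have h1 := hτ v k x hne
          rw [show τ v = 1 from hθ] at h1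
          exact h1.symm)) (by simp)] at h
    exact fun k => ⟨mul_self_eq_one_iff.1 (hsq v₁ hv₁ ht₁ k), mul_self_eq_one_iff.1 (hsq v₂ hv₂ ht₂ k)⟩
  have hc0 : ∀ k, c k ≠ 0 := by
    intro k h0
    have hz : G *ᵥ Pi.single k 1 = G *ᵥ 0 := by
      rw [mulVec_zero, mulVec_single_one]
      funext l
      fin_cases l <;> simp [e00, e10, e20, e30, h0]
    have := congrFun (gl_mulVec_injective g hz) k
    simp at this
  have hinj : ∀ k k', ε₁ k = ε₁ k' → ε₂ k = ε₂ k' → k = k' := by
    intro k k' h1 h2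
    by_contra hne
    have hz : G *ᵥ Pi.single k (c k') = G *ᵥ Pi.single k' (c k) := by
      funext l
      rw [mulVec_single, mulVec_single, Pi.smul_apply, Pi.smul_apply, Matrix.col_apply, Matrix.col_apply,
        op_smul_eq_smul, op_smul_eq_smul, smul_eq_mul, smul_eq_mul]
      fin_cases l <;> simp [e00, e10, e20, e30, h1, h2] <;> ring
    have := congrFun (gl_mulVec_injective g hz) k
    rw [Pi.single_eq_same, Pi.single_eq_of_ne hne] at this
    exact hc0 k' this
  have h2 : (2 : F) ≠ 0 := fun h2 => by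
    have h1 : (-1 : F) = 1 := by linear_combination -h2
    have hh : ∀ k, ε₁ k = 1 ∧ ε₂ k = 1 := fun k =>
      ⟨(hε k).1.elim id fun h => h.trans h1, (hε k).2.elim id fun h => h.trans h1⟩
    exact absurd (hinj 0 1 ((hh 0).1.trans (hh 1).1.symm) ((hh 0).2.trans (hh 1).2.symm)) (by decide)
  let sg : Bool → F := fun b => if b then 1 else -1
  have hsg : ∀ x : F, (x = 1 ∨ x = -1) → ∃ b, x = sg b := fun x hx => by
    rcases hx with h | h
    · exact ⟨true, h⟩
    · exact ⟨false, h⟩
  choose b₁ hb₁ using fun k => hsg _ (hε k).1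
  choose b₂ hb₂ using fun k => hsg _ (hε k).2
  have hbij : Function.Bijective fun k => (b₁ k, b₂ k) := by
    rw [Fintype.bijective_iff_injective_and_card]
    refine ⟨fun k k' h => hinj k k' ?_ ?_, rfl⟩
    · rw [hb₁, hb₁]; exact congrArg sg (Prod.ext_iff.1 h).1
    · rw [hb₂, hb₂]; exact congrArg sg (Prod.ext_iff.1 h).2
  have hsum : ∀ f : F → F → F, ∑ k, f (ε₁ k) (ε₂ k) = f 1 1 + f 1 (-1) + f (-1) 1 + f (-1) (-1) := by
    intro f
    rw [show (∑ k, f (ε₁ k) (ε₂ k)) = ∑ p : Bool × Bool, f (sg p.1) (sg p.2) from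
      Fintype.sum_equiv (Equiv.ofBijective _ hbij) _ _ fun k => by simp [hb₁, hb₂],
      Fintype.sum_prod_type]
    simp [sg]
    ring
  have hprod : ∀ f : F → F → F, ∏ k, f (ε₁ k) (ε₂ k) = f 1 1 * f 1 (-1) * f (-1) 1 * f (-1) (-1) := by
    intro f
    rw [show (∏ k, f (ε₁ k) (ε₂ k)) = ∏ p : Bool × Bool, f (sg p.1) (sg p.2) from
      Fintype.prod_equiv (Equiv.ofBijective _ hbij) _ _ fun k => by simp [hb₁, hb₂],
      Fintype.prod_prod_type]
    simp [sg]
    ring
  -- the product of the scalars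
  have hdetg : ((∏ l, a l) * ∏ k, c k) ^ 2 * 256 = 1 := by
    let T : Matrix (Fin 4) (Fin 4) F :=
      Matrix.of fun l k => ![1, ε₁ k, ε₂ k, ε₁ k * ε₂ k] l
    have hGT : G = diagonal a * T * diagonal c := by
      ext l k
      rw [mul_diagonal, diagonal_mul]
      fin_cases l <;> simp [T, e00, e10, e20, e30]
    have hTT : Tᵀ * T = (4 : F) • 1 := by
      ext k k'
      rw [Matrix.mul_apply, Fin.sum_univ_four, Matrix.smul_apply, Matrix.one_apply]
      simp only [transpose_apply, T, Matrix.of_apply, Matrix.cons_val]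
      by_cases hk : k = k'
      · subst hk
        rw [if_pos rfl]
        rcases hε k with ⟨h1 | h1, h3 | h3⟩ <;> rw [h1, h3] <;> simp <;> ring
      · rw [if_neg hk, smul_zero]
        rcases hε k with ⟨h1 | h1, h3 | h3⟩ <;> rcases hε k' with ⟨h1' | h1', h3' | h3'⟩ <;>
          first
            | exact absurd (hinj k k' (h1.trans h1'.symm) (h3.trans h3'.symm)) hk
            | (rw [h1, h3, h1', h3']; ring)
    have h1 := congrArg Matrix.det hTT
    rw [det_mul, det_transpose, det_smul, det_one, Fintype.card_fin, mul_one] at h1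
    have h := H.det g hg
    rw [← hG, hGT, det_mul, det_mul, det_diagonal, det_diagonal] at h
    linear_combination ((∏ l, a l) * (∏ k, c k) * T.det + 1) * h - ((∏ l, a l) * ∏ k, c k) ^ 2 * h1
  -- a vector with the right product mapped to two coordinates
  obtain ⟨s, hs0, hs1, hs2⟩ : ∃ s : F, s ≠ 0 ∧ s * s ≠ 4 ∧ s * s ≠ -4 := by
    by_contra hcon
    push Not at hcon
    have hle : (Finset.univ : Finset F) ⊆
        insert 0 ((Finset.univ.filter fun s : F => s * s = 4) ∪ Finset.univ.filter fun s : F => s * s = -4) :=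
      fun s _ => by
        by_cases h0 : s = 0
        · simp [h0]
        by_cases h4 : s * s = 4
        · simp [h4]
        · simp [hcon s h0 h4]
    have hroots : ∀ r : F, (Finset.univ.filter fun s : F => s * s = r).card ≤ 2 := by
      intro r
      by_cases hr : ∃ s : F, s * s = r
      · obtain ⟨s, hs⟩ := hr
        refine le_trans (Finset.card_le_card (t := {s, -s}) fun x hx => ?_) Finset.card_le_two
        rcases mul_self_eq_mul_self_iff.1 (((Finset.mem_filter.1 hx).2).trans hs.symm) with h | h <;> simp [h]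
      · rw [Finset.filter_false_of_mem fun s _ hs => hr ⟨s, hs⟩]
        simp
    have h7 := H.seven
    rw [Nat.card_eq_fintype_card, ← Finset.card_univ] at h7
    have h5 := h7.trans ((Finset.card_le_card hle).trans ((Finset.card_insert_le _ _).trans
      (Nat.add_le_add_right ((Finset.card_union_le _ _).trans (Nat.add_le_add (hroots 4) (hroots (-4)))) 1)))
    omega
  set α : F := (s + 4 / s) / 2 with hα
  set β : F := (s - 4 / s) / 2 with hβ
  have hα0 : α ≠ 0 := fun h => hs2 (by simp only [hα] at h; field_simp at h; linear_combination h)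
  have hβ0 : β ≠ 0 := fun h => hs1 (by simp only [hβ] at h; field_simp at h; linear_combination h)
  have h4 : (4 : F) ≠ 0 := by
    rw [show (4 : F) = 2 * 2 by norm_num]
    exact mul_ne_zero h2 h2
  have hαβ : α ^ 2 - β ^ 2 = 4 := by
    simp only [hα, hβ]
    field_simp
    ring
  set y : Fin 4 → F := fun k => (α + ε₁ k * β) / 4 / c k with hy
  have hGy : ∀ l, (G *ᵥ y) l = a l * (![α, β, 0, 0] : Fin 4 → F) l := by
    intro l
    have key : ∀ (f : F → F → F) (r : F), (∀ k, G l k = a l * f (ε₁ k) (ε₂ k) * c k) →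
        f 1 1 * (α + β) + f 1 (-1) * (α + β) + f (-1) 1 * (α - β) + f (-1) (-1) * (α - β) = 4 * r →
        (G *ᵥ y) l = a l * r := by
      intro f r hf hr
      have : (G *ᵥ y) l = a l / 4 * ∑ k, f (ε₁ k) (ε₂ k) * (α + ε₁ k * β) := by
        rw [mulVec, dotProduct, Finset.mul_sum]
        refine Finset.sum_congr rfl fun k _ => ?_
        simp only [hy, hf]
        field_simp [hc0 k]
      rw [this, hsum fun u v => f u v * (α + u * β)]
      field_simp
      linear_combination a l * hr
    fin_cases l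
    · exact key (fun _ _ => 1) α (fun k => by simp [e00]) (by ring)
    · exact key (fun u _ => u) β (fun k => by simp [e10]) (by ring)
    · exact key (fun _ v => v) 0 (fun k => by simp [e20]) (by ring)
    · exact key (fun u v => u * v) 0 (fun k => by simp [e30]) (by ring)
  have hpy : (∏ k, y k) * (∏ k, c k) = 1 / 16 := by
    rw [← Finset.prod_mul_distrib, Finset.prod_congr rfl (g := fun k => (α + ε₁ k * β) / 4) fun k _ => by
      simp only [hy]; rw [div_mul_cancel₀ _ (hc0 k)], hprod fun u _ => (α + u * β) / 4]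
    rw [div_mul_div_comm, div_mul_div_comm, div_mul_div_comm,
      div_eq_div_iff (mul_ne_zero (mul_ne_zero (mul_ne_zero h4 h4) h4) h4)
        (show (16 : F) ≠ 0 by rw [show (16 : F) = 4 * 4 by norm_num]; exact mul_ne_zero h4 h4)]
    linear_combination 16 * (α ^ 2 - β ^ 2 + 4) * hαβ
  have hy0 : ∀ k, y k ≠ 0 := by
    intro k hk
    rw [Finset.prod_eq_zero (Finset.mem_univ k) hk, zero_mul, eq_comm, div_eq_zero_iff] at hpy
    rcases hpy with h | h
    · exact one_ne_zero h
    · exact mul_ne_zero h4 h4 (by linear_combination h)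
  obtain ⟨σ, hσ⟩ : ∃ σ : Equiv.Perm (Fin 4), (∏ l, y l) * ((Equiv.Perm.sign σ : ℤ) : F) = ∏ l, a l := by
    have hfac : ((∏ l, y l) - ∏ l, a l) * ((∏ l, y l) + ∏ l, a l) = 0 := by
      refine (mul_eq_zero.1 (?_ : _ * (∏ k, c k) ^ 2 = 0)).resolve_right
        (pow_ne_zero _ (Finset.prod_ne_zero_iff.2 fun k _ => hc0 k))
      have h256 : (1 : F) / 16 * (1 / 16) * 256 = 1 := by
        have h16 : (16 : F) ≠ 0 := by rw [show (16 : F) = 4 * 4 by norm_num]; exact mul_ne_zero h4 h4
        field_simp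
        norm_num
      have h256' : (256 : F) ≠ 0 := by
        rw [show (256 : F) = 4 * 4 * (4 * 4) by norm_num]
        exact mul_ne_zero (mul_ne_zero h4 h4) (mul_ne_zero h4 h4)
      refine mul_right_cancel₀ h256' ?_
      linear_combination ((∏ l, y l) * (∏ k, c k) + 1 / 16) * 256 * hpy + h256 - hdetg
    rcases mul_eq_zero.1 hfac with h | h
    · exact ⟨1, by rw [Equiv.Perm.sign_one]; push_cast; linear_combination h⟩
    · exact ⟨Equiv.swap 0 1, by rw [Equiv.Perm.sign_swap (by decide)]; push_cast; linear_combination -h⟩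
  have hd' : ∀ l, y l / a (σ l) ≠ 0 := fun l => div_ne_zero (hy0 l) (ha0 _)
  have hnM : mono (fun l => y l / a (σ l)) σ ∈ M := H.setting.mem _ (blockMon_mono hd' σ fun _ => rfl) (by
    rw [det_mono hd', Finset.prod_div_distrib, Equiv.prod_comp σ a, div_mul_eq_mul_div, hσ, div_self
      (Finset.prod_ne_zero_iff.2 fun l _ => ha0 l)])
  have hg' : g * mono (fun l => y l / a (σ l)) σ * g ∈ M := M.mul_mem (M.mul_mem hg hnM) hg
  have hcol : ∀ l, ((g * mono (fun l => y l / a (σ l)) σ * g : GL (Fin 4) F) : Matrix (Fin 4) (Fin 4) F) l j =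
      a l * (![α, β, 0, 0] : Fin 4 → F) l := by
    intro l
    rw [← hGy]
    have h1 : G *ᵥ Pi.single j 1 = a := by rw [mulVec_single_one]; rfl
    have hna : (mono (fun l => y l / a (σ l)) σ : Matrix (Fin 4) (Fin 4) F) *ᵥ a = y := funext fun i => by
      rw [mono_mulVec hd', div_mul_cancel₀ _ (ha0 _)]
    have := congrFun (show ((g * mono (fun l => y l / a (σ l)) σ * g : GL (Fin 4) F) :
        Matrix (Fin 4) (Fin 4) F) *ᵥ Pi.single j 1 = G *ᵥ y by
      rw [gl_mul_mulVec, gl_mul_mulVec, h1, hna]) l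
    rwa [mulVec_single_one] at this
  obtain ⟨π, hπ⟩ := col_two_zeros H hg' (p := 2) (w := 3) (j := j) (by decide) (by rw [hcol]; simp)
    (by rw [hcol]; simp)
  have p0 := hπ 0 j (by rw [hcol]; simpa using ⟨ha0 0, hα0⟩)
  have p1 := hπ 1 j (by rw [hcol]; simpa using ⟨ha0 1, hβ0⟩)
  exact absurd (p0.trans p1.symm) (by decide)

/-- There is no non-monomial element. -/
theorem blockMon_of_mem {g : GL (Fin 4) F} (hg : g ∈ M) : BlockMon id g := by
  classical
  haveI := Fintype.ofFinite F
  by_contra hmon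
  set G := (g : Matrix (Fin 4) (Fin 4) F) with hG
  choose z hz using fun j => col_exists_zero H hg j
  have hz' : ∀ i j, G i j = 0 → i = z j := fun i j h => by
    by_contra hne
    exact hmon (col_two_zeros H hg hne h (hz j))
  have hrow : ∀ i, ∃ k, G i k ≠ 0 := fun i => by
    by_contra hall
    push Not at hall
    exact absurd (H.det g hg) (by rw [← hG, det_eq_zero_of_row_eq_zero i hall]; exact zero_ne_one)
  have hfresh : ∀ r r' : Fin 4, ∃ k, k ≠ r ∧ k ≠ r' := by decide
  obtain ⟨j, hj⟩ : ∃ j, ∀ i, ∃ k, k ≠ z j ∧ G i k ≠ 0 := by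
    by_contra hc
    push Not at hc
    have two : ∀ i r i' r', i ≠ i' → (∀ k, k ≠ r → G i k = 0) → (∀ k, k ≠ r' → G i' k = 0) → False := by
      intro i r i' r' hne h h'
      obtain ⟨k, hk, hk'⟩ := hfresh r r'
      exact hmon (col_two_zeros H hg hne (h k hk) (h' k hk'))
    obtain ⟨i₀, h₀⟩ := hc 0
    obtain ⟨k, hk, -⟩ := hfresh (z 0) (z 0)
    by_cases hir : i₀ = z 0
    · obtain ⟨i₁, h₁⟩ := hc (z 0)
      refine two i₁ (z (z 0)) i₀ (z 0) (fun e => ?_) h₁ h₀
      obtain ⟨k', hk'⟩ := hrow i₀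
      have hk'0 : k' = z 0 := by
        by_contra hne
        exact hk' (h₀ k' hne)
      rw [hk'0] at hk'
      by_cases h' : z 0 = z (z 0)
      · exact hk' (by
          have h := hz (z 0)
          rw [← h', ← hir] at h
          rwa [← hir, ← hG] at *)
      · exact hk' (e ▸ h₁ _ h')
    · obtain ⟨i₁, h₁⟩ := hc k
      have hzk : z k = i₀ := (hz' i₀ k (h₀ k hk)).symm
      refine two i₁ (z k) i₀ (z 0) (fun e => ?_) h₁ h₀
      obtain ⟨k', hk'⟩ := hrow i₀
      by_cases hk'0 : k' = z k
      · exact hk' (h₀ k' (by rw [hk'0, hzk]; exact hir))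
      · exact hk' (e ▸ h₁ k' hk'0)
  set r := z j with hr
  set R : Finset (Fin 4) := Finset.univ.erase r with hR
  have hRc : R.card = 3 := by simp [hR]
  obtain ⟨x, hx, hxG⟩ : ∃ x ∈ Count.torus F R, ∀ i, (G *ᵥ x) i ≠ 0 := by
    by_contra hc
    push Not at hc
    have hle : Count.torus F R ⊆
        Finset.univ.biUnion fun i => (Count.torus F R).filter fun x => (G *ᵥ x) i = 0 := fun x hx => by
      obtain ⟨i, hi⟩ := hc x hx
      exact Finset.mem_biUnion.2 ⟨i, Finset.mem_univ i, Finset.mem_filter.2 ⟨hx, hi⟩⟩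
    have hone : ∀ i ∈ (Finset.univ : Finset (Fin 4)),
        ((Count.torus F R).filter fun x => (G *ᵥ x) i = 0).card ≤ (Fintype.card F - 1) ^ 2 := by
      intro i _
      obtain ⟨k, hk, hk0⟩ := hj i
      have hkR : k ∈ R := by simp [hR, hk]
      rw [show 2 = (R.erase k).card by rw [Finset.card_erase_of_mem hkR, hRc], ← Count.card_torus]
      refine Finset.card_le_card_of_injOn (fun x => Function.update x k 0) (fun x hx => ?_) ?_
      · rw [Finset.mem_coe, Finset.mem_filter, Count.mem_torus] at hx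
        rw [Finset.mem_coe, Count.mem_torus]
        intro l
        by_cases hl : l = k
        · subst hl; simp
        · simp [hl, hx.1 l]
      · intro x hx x' hx' h
        rw [Finset.mem_coe, Finset.mem_filter] at hx hx'
        have hd : x - x' = Pi.single k (x k - x' k) := funext fun l => by
          by_cases hl : l = k
          · subst hl; simp
          · have := congrFun h l
            simp [hl] at this
            simp [hl, this]
        have h0 := congrFun (congrArg (fun v => G *ᵥ v) hd) i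
        simp only [mulVec_sub, Pi.sub_apply, hx.2, hx'.2, sub_self, mulVec_single, Pi.smul_apply,
          Matrix.col_apply, op_smul_eq_smul, smul_eq_mul] at h0
        rw [(mul_eq_zero.1 h0.symm).resolve_right hk0, Pi.single_zero] at hd
        exact sub_eq_zero.1 hd
    have hcard := (Finset.card_le_card hle).trans (Finset.card_biUnion_le_card_mul _ _ _ hone)
    rw [Count.card_torus, hRc, Finset.card_univ, Fintype.card_fin] at hcard
    have h7 := H.seven
    rw [Nat.card_eq_fintype_card] at h7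
    obtain ⟨q, hq⟩ : ∃ q, Fintype.card F - 1 = q + 6 := ⟨Fintype.card F - 7, by omega⟩
    rw [hq] at hcard
    nlinarith [Nat.zero_le q]
  rw [Count.mem_torus] at hx
  set a : Fin 4 → F := fun l => G l j with ha
  have hd : ∀ l, (if l = r then 1 else x l / a l) ≠ 0 := fun l => by
    split_ifs with h
    · exact one_ne_zero
    · exact div_ne_zero ((hx l).2 (by simp [hR, h])) fun h0 => h (hz' l j h0)
  obtain ⟨d', hd', hdM, heq⟩ := Stab.exists_lift H.setting r hd 1
  have hna : (mono d' 1 : Matrix (Fin 4) (Fin 4) F) *ᵥ a = x := funext fun l => by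
    rw [mono_mulVec hd', Equiv.Perm.one_apply]
    by_cases h : l = r
    · have hx0 : x l = 0 := by
        by_contra h0
        have := (hx l).1 h0
        simp [hR, h] at this
      rw [hx0, show a l = 0 by rw [h]; exact hz j, mul_zero]
    · rw [heq l h, if_neg h, div_mul_cancel₀ _ fun h0 => h (hz' l j h0)]
  obtain ⟨p, hp⟩ := col_exists_zero H (M.mul_mem (M.mul_mem hg hdM) hg) j
  refine hxG p ?_
  have h1 : G *ᵥ Pi.single j 1 = a := by rw [mulVec_single_one]; rfl
  have := congrFun (show ((g * mono d' 1 * g : GL (Fin 4) F) : Matrix (Fin 4) (Fin 4) F) *ᵥ Pi.single j 1 =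
      G *ᵥ x by rw [gl_mul_mulVec, gl_mul_mulVec, h1, hna]) p
  rw [mulVec_single_one, Matrix.col_apply, hp] at this
  exact this.symm

end Main

end Cfsg.Agent.Lib.DecompMax.Four
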