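import Cfsg.Agent.Lib.DecompMax.Main
import Cfsg.Agent.Lib.DecompMax.Four

/-!
Decomposition stabilisers in four dimensions.
-/

set_option autoImplicit false

namespace Cfsg.Agent.Lib.DecompMax.FourMain

open Matrix Cfsg.Agent.Lib.Subspaces.Transvection Cfsg.Agent.Lib.Subspaces.Decomposition
  Cfsg.Agent.Lib.DecompMax.Blocks

variable {ι : Type} [Fintype ι] [DecidableEq ι] {F : Type*} [Field F] [Fintype F] {B : Type} [DecidableEq B]

theorem exists_scaling (h : 4 ≤ Fintype.card F) :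
    ∃ (s t : F) (m : ℕ), s ≠ 0 ∧ t ≠ 0 ∧ (m = 1 ∨ m = 2) ∧ s / t = m ∧ s ^ 3 * t ≠ m := by
  classical
  by_cases h4 : ∃ s : F, s ≠ 0 ∧ s ^ 4 ≠ 1
  · obtain ⟨s, hs, hs4⟩ := h4
    exact ⟨s, s, 1, hs, hs, Or.inl rfl, by rw [div_self hs, Nat.cast_one],
      by rw [Nat.cast_one, ← pow_succ]; exact hs4⟩
  push Not at h4
  obtain ⟨u, hu⟩ := IsCyclic.exists_generator (α := Fˣ)
  have hord : orderOf u = Fintype.card F - 1 := by
    rw [orderOf_eq_card_of_forall_mem_zpowers hu, Nat.card_eq_fintype_card, Fintype.card_units]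
  have hle : orderOf u ≤ 4 := orderOf_le_of_pow_eq_one (by norm_num) (Units.ext (by simpa using h4 u u.ne_zero))
  have hdvd : orderOf u ∣ 4 := orderOf_dvd_of_pow_eq_one (Units.ext (by simpa using h4 u u.ne_zero))
  have h5 : Fintype.card F = 5 := by
    rw [hord] at hle hdvd
    interval_cases hc : Fintype.card F - 1 <;> omega
  have h50 : (5 : F) = 0 := by
    have := FiniteField.cast_card_eq_zero F
    rw [h5] at this
    exact_mod_cast this
  have h3 : (3 : F) ≠ 0 := fun e => one_ne_zero (α := F) (by linear_combination 2 * e - h50)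
  refine ⟨1, 3, 2, one_ne_zero, h3, Or.inr rfl, ?_, ?_⟩
  · rw [div_eq_iff h3]; push_cast; linear_combination -h50
  · push_cast
    intro e
    exact one_ne_zero (α := F) (by linear_combination e)

variable {β : ι → B} {M : Subgroup (GL ι F)} (S : Setting β M)
include S

/-- A transvection not inside one of two blocks of size two gives an elementary one between them. -/
theorem off_of_tv_four {a χ : ι → F} (hχa : χ ⬝ᵥ a = 0) (hM : tv a χ ∈ M) {l q : ι} (hl : χ l ≠ 0)
    (hq : β q ≠ β l) (haq : a q ≠ 0) (hpart : ∀ x : ι, ∃ y, y ≠ x ∧ β y = β x)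
    (hcard : Fintype.card ι = 4) (h4 : 4 ≤ Fintype.card F) : Off β M := by
  by_contra hoff
  obtain ⟨a₁, χ₁, u, h₁, hM₁, hub, hul, honly, hau, hal, hχu, hχl, hrest⟩ :=
    Large.step S hχa hM hl hq haq hpart hoff
  have haq₁ : a₁ q ≠ 0 := by rw [(hrest q hq).1]; exact haq
  obtain ⟨l₂, hl₂b, hl₂⟩ : ∃ l₂, β l₂ = β q ∧ χ₁ l₂ ≠ 0 := by
    by_contra hno
    push Not at hno
    obtain ⟨r, hr, hrb⟩ := hpart q
    exact hoff (Large.win_axis S h₁ hM₁ hr hrb haq₁ (hno r hrb) (l := l) (by rw [hrb]; exact Ne.symm hq) hχl hpart)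
  have hub₂ : β u ≠ β l₂ := by rw [hub, hl₂b]; exact Ne.symm hq
  obtain ⟨a₂, χ₂, u₂, h₂, hM₂, hu₂b, hu₂l, honly₂, hau₂, hal₂, hχu₂, hχl₂, hrest₂⟩ :=
    Large.step S h₁ hM₁ hl₂ hub₂ hau hpart hoff
  have hlb₂ : β l ≠ β l₂ := by rw [hl₂b]; exact Ne.symm hq
  have hal' : a₂ l = 0 := by rw [(hrest₂ l hlb₂).1]; exact hal
  have hau' : a₂ u ≠ 0 := by rw [(hrest₂ u hub₂).1]; exact hau
  have hχu' : χ₂ u = 0 := by rw [(hrest₂ u hub₂).2]; exact hχu
  have hne1 : u ≠ l₂ := fun e => hub₂ (congrArg β e)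
  have hne2 : u ≠ u₂ := fun e => hub₂ (by rw [e, hu₂b])
  have hne3 : l ≠ l₂ := fun e => hlb₂ (congrArg β e)
  have hne4 : l ≠ u₂ := fun e => hlb₂ (by rw [e, hu₂b])
  have huniv : ∀ x : ι, x = u ∨ x = l ∨ x = u₂ ∨ x = l₂ := by
    intro x
    by_contra hx
    push Not at hx
    have hc : ({u, l, u₂, l₂, x} : Finset ι).card = 5 := by
      simp [hul, hne1, hne2, hne3, hne4, hu₂l, Ne.symm hx.1, Ne.symm hx.2.1, Ne.symm hx.2.2.1, Ne.symm hx.2.2.2]
    have := Finset.card_le_univ ({u, l, u₂, l₂, x} : Finset ι)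
    omega
  obtain ⟨s, t, m, hs, ht, hm, hst, hst'⟩ := exists_scaling h4
  let D : ι → F := fun z => if z = l₂ then (s * s * t)⁻¹ else if z = l then t else s
  have hD : ∀ z, D z ≠ 0 := fun z => by
    simp only [D]
    split_ifs
    · exact inv_ne_zero (mul_ne_zero (mul_ne_zero hs hs) ht)
    · exact ht
    · exact hs
  have hdet : ∏ z, D z = 1 := by
    rw [show (Finset.univ : Finset ι) = {u, l, u₂, l₂} from Finset.ext fun z => by simpa using huniv z,
      Finset.prod_insert (by simp [Ne.symm hul.symm, hne1, hne2]), Finset.prod_insert (by simp [hne4, hne3]),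
      Finset.prod_insert (by simp [hu₂l]), Finset.prod_singleton]
    simp [D, hne1, hul, hne3, hu₂l, Ne.symm hne4]
    field_simp
  have hcen : (fun z => D z * a₂ ((1 : Equiv.Perm ι) z)) = s • a₂ := funext fun z => by
    rcases huniv z with rfl | rfl | rfl | rfl <;>
      simp [D, hal', hal₂, hne1, hne3, hul, hu₂l, Ne.symm hne4]
  have hmem := S.diag_mem hD hdet
  have h := M.mul_mem (M.mul_mem hmem hM₂) (M.inv_mem hmem)
  rw [mono_conj_tv hD 1 h₂, hcen] at h
  set ψ : ι → F := fun z => s * (χ₂ z / D z) with hψ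
  have hψ0 : ψ ⬝ᵥ a₂ = 0 := by
    rw [← mul_zero (1 : F), ← h₂, one_mul]
    refine Finset.sum_congr rfl fun z _ => ?_
    rcases huniv z with rfl | rfl | rfl | rfl <;>
      simp [ψ, D, hal', hal₂, hχu', hχu₂, hne1, hne3, hul, hu₂l, Ne.symm hne4]
  have hψM : tv a₂ ψ ∈ M := by
    rwa [tv_smul (by
      have e : ψ = s • fun z => χ₂ z / D z := funext fun z => rfl
      rw [e, smul_dotProduct, smul_eq_mul] at hψ0
      exact (mul_eq_zero.1 hψ0).resolve_left hs), show (s • fun z => χ₂ ((1 : Equiv.Perm ι) z) / D z) = ψ from rfl] at h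
  have hneg : tv a₂ (-((m : F) • χ₂)) ∈ M := by
    rw [← tv_inv (by rw [smul_dotProduct, h₂, smul_zero])]
    refine M.inv_mem ?_
    rcases hm with rfl | rfl
    · rwa [Nat.cast_one, one_smul]
    · rw [Nat.cast_two, two_smul, ← tv_mul_center h₂ h₂]
      exact M.mul_mem hM₂ hM₂
  have hd' : (-((m : F) • χ₂)) ⬝ᵥ a₂ = 0 := by rw [neg_dotProduct, smul_dotProduct, h₂, smul_zero, neg_zero]
  have hfin := M.mul_mem hψM hneg
  rw [tv_mul_center hψ0 hd'] at hfin
  have hvl : (ψ + -((m : F) • χ₂)) l = 0 := by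
    simp only [Pi.add_apply, Pi.neg_apply, Pi.smul_apply, smul_eq_mul, ψ, D, if_neg hne3, if_true]
    rw [← hst]
    field_simp
    ring
  have hvl₂ : (ψ + -((m : F) • χ₂)) l₂ ≠ 0 := by
    simp only [Pi.add_apply, Pi.neg_apply, Pi.smul_apply, smul_eq_mul, ψ, D, if_true]
    intro e
    rw [div_inv_eq_mul] at e
    exact mul_ne_zero (sub_ne_zero.2 hst') hχl₂ (by linear_combination e)
  exact hoff (Large.win_axis S (by rw [add_dotProduct, hψ0, hd', add_zero]) hfin hul.symm hub.symm hau' hvl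
    (Ne.symm hlb₂) hvl₂ hpart)

omit S in
theorem planes_maximal {t : ℕ} (D : Fin t → Submodule F (ι → F)) (hD : Cfsg.Geo.IsMDecomposition 2 D)
    (hcard : Fintype.card ι = 4) (h4 : 4 ≤ Fintype.card F) :
    Cfsg.Geo.IsMaximalIn (Cfsg.Geo.specialLinear ι F)
      (Cfsg.Geo.decompositionStabilizer D ⊓ Cfsg.Geo.specialLinear ι F) := by
  classical
  obtain ⟨e, P, hP⟩ := Frame.exists_frame hD
  set β : ι → Fin t := fun a => (e a).1
  let c := (MulAut.conj P).toMonoidHom
  have hc : ∀ g, c g = P * g * P⁻¹ := fun g => rfl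
  have hdet : ∀ g : GL ι F, c g ∈ Cfsg.Geo.specialLinear ι F ↔ (g : Matrix ι ι F).det = 1 := fun g => by
    rw [mem_specialLinear_iff, hc, Units.val_mul, Units.val_mul, det_mul_right_comm, Units.mul_inv, one_mul]
  have ht := hD.two_le
  refine ⟨lt_of_le_not_ge inf_le_right fun hle => ?_, fun M hHM hMK => ?_⟩
  · let a := e.symm (⟨0, by omega⟩, 0)
    let b := e.symm (⟨1, by omega⟩, 0)
    have hab : (e a).1 ≠ (e b).1 := by simp [a, b]
    exact Frame.conj_tv_not_mem hP hD hab (hle ((hdet (tv (Pi.single a (1 : F)) (Pi.single b 1))).2 (det_tv _ _))).1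
  by_cases hM : M ≤ Cfsg.Geo.decompositionStabilizer D
  · exact Or.inl (le_antisymm (le_inf hM hMK) hHM)
  refine Or.inr (le_antisymm hMK ?_)
  obtain ⟨x, hxM, hx⟩ := SetLike.not_le_iff_exists.1 hM
  obtain ⟨g, rfl⟩ : ∃ g, c g = x := (MulAut.conj P).surjective x
  have hnm : ¬ BlockMon β g := fun h => hx (Frame.conj_mem hP hD h)
  have hS : Blocks.Setting β (M.comap c) :=
    ⟨fun y hy hy1 => hHM ⟨Frame.conj_mem hP hD hy, (hdet y).2 hy1⟩, 2, e, fun _ => rfl⟩
  suffices H : Cfsg.Geo.specialLinear ι F ≤ M.comap c by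
    intro y hy
    obtain ⟨z, rfl⟩ : ∃ z, c z = y := (MulAut.conj P).surjective y
    exact H ((mem_specialLinear_iff z).2 ((hdet z).1 hy))
  have hpart : ∀ x : ι, ∃ y, y ≠ x ∧ β y = β x := fun x => by
    obtain ⟨k, hk⟩ : ∃ k : Fin 2, k ≠ (e x).2 := exists_ne _
    exact ⟨e.symm ((e x).1, k), fun h => hk (by rw [← h]; simp), by simp [β]⟩
  refine hS.sl_le_of_off (by omega) ?_
  obtain ⟨a, χ, l, q, hχa, htv, hl, hq, haq⟩ := Large.exists_tv hS
    (fun k => ⟨e.symm (k, 0), by simp [β]⟩) (show g ∈ M.comap c from hxM) hnm hpart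
  exact off_of_tv_four hS hχa htv hl hq haq hpart hcard h4

omit S in
theorem lines_maximal (D : Fin 4 → Submodule F (Fin 4 → F)) (hD : Cfsg.Geo.IsMDecomposition 1 D)
    (h7 : 7 ≤ Fintype.card F) :
    Cfsg.Geo.IsMaximalIn (Cfsg.Geo.specialLinear (Fin 4) F)
      (Cfsg.Geo.decompositionStabilizer D ⊓ Cfsg.Geo.specialLinear (Fin 4) F) := by
  classical
  obtain ⟨e, P, hP⟩ := Frame.exists_frame hD
  set β : Fin 4 → Fin 4 := fun a => (e a).1
  let c := (MulAut.conj P).toMonoidHom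
  have hc : ∀ g, c g = P * g * P⁻¹ := fun g => rfl
  have hdet : ∀ g : GL (Fin 4) F, c g ∈ Cfsg.Geo.specialLinear (Fin 4) F ↔
      (g : Matrix (Fin 4) (Fin 4) F).det = 1 := fun g => by
    rw [mem_specialLinear_iff, hc, Units.val_mul, Units.val_mul, det_mul_right_comm, Units.mul_inv, one_mul]
  refine ⟨lt_of_le_not_ge inf_le_right fun hle => ?_, fun M hHM hMK => ?_⟩
  · let a := e.symm (0, 0)
    let b := e.symm (1, 0)
    have hab : (e a).1 ≠ (e b).1 := by simp [a, b]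
    exact Frame.conj_tv_not_mem hP hD hab (hle ((hdet (tv (Pi.single a (1 : F)) (Pi.single b 1))).2 (det_tv _ _))).1
  by_cases hM : M ≤ Cfsg.Geo.decompositionStabilizer D
  · exact Or.inl (le_antisymm (le_inf hM hMK) hHM)
  refine Or.inr (le_antisymm hMK ?_)
  obtain ⟨x, hxM, hx⟩ := SetLike.not_le_iff_exists.1 hM
  obtain ⟨g, rfl⟩ : ∃ g, c g = x := (MulAut.conj P).surjective x
  have hnm : ¬ BlockMon β g := fun h => hx (Frame.conj_mem hP hD h)
  suffices H : Cfsg.Geo.specialLinear (Fin 4) F ≤ M.comap c by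
    intro y hy
    obtain ⟨z, rfl⟩ : ∃ z, c z = y := (MulAut.conj P).surjective y
    exact H ((mem_specialLinear_iff z).2 ((hdet z).1 hy))
  have hbij : Function.Bijective β :=
    ⟨fun a b h => e.injective (Prod.ext h (Subsingleton.elim _ _)), fun k => ⟨e.symm (k, 0), by simp [β]⟩⟩
  have hmon : ∀ y : GL (Fin 4) F, BlockMon id y → BlockMon β y := by
    rintro y ⟨σ, hσ⟩
    refine ⟨(Equiv.ofBijective β hbij).permCongr σ, fun a b hab => ?_⟩
    have h : a = σ b := hσ a b hab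
    rw [Equiv.permCongr_apply,
      show (Equiv.ofBijective β hbij).symm (β b) = b from (Equiv.ofBijective β hbij).symm_apply_apply b, h]
    rfl
  have hS : Blocks.Setting id (M.comap c) :=
    ⟨fun y hy hy1 => hHM ⟨Frame.conj_mem hP hD (hmon y hy), (hdet y).2 hy1⟩, 1,
      (Equiv.prodUnique (Fin 4) (Fin 1)).symm, fun a => rfl⟩
  by_cases hoff : Off id (M.comap c)
  · exact hS.sl_le_of_off (by simp) hoff
  · exact absurd (hmon g (Four.blockMon_of_mem
      ⟨hS, fun y hy => (hdet y).1 (hMK hy), by simp, by rwa [Nat.card_eq_fintype_card], hoff⟩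
      (show g ∈ M.comap c from hxM))) hnm

end Cfsg.Agent.Lib.DecompMax.FourMain
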