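import Cfsg.Agent.Lib.DecompMax.Blocks
import Cfsg.Agent.Lib.Subspaces.Decomposition

/-!
A coordinate frame adapted to a decomposition.
-/

set_option autoImplicit false

namespace Cfsg.Agent.Lib.DecompMax.Frame

open Matrix Cfsg.Agent.Lib.Subspaces.Transvection Cfsg.Agent.Lib.Subspaces.Decomposition
  Cfsg.Agent.Lib.DecompMax.Blocks

variable {ι : Type} [Fintype ι] [DecidableEq ι] {F : Type*} [Field F]
  {t m : ℕ} {D : Fin t → Submodule F (ι → F)}

theorem exists_frame (hD : Cfsg.Geo.IsMDecomposition m D) :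
    ∃ (e : ι ≃ Fin t × Fin m) (P : GL ι F),
      ∀ a, (P : Matrix ι ι F) *ᵥ Pi.single a 1 ∈ D (e a).1 := by
  classical
  have e : ι ≃ Fin t × Fin m := (Fintype.equivFinOfCardEq (card_eq hD)).trans finProdFinEquiv.symm
  let bs : ∀ i, Module.Basis (Fin m) F (D i) := fun i => Module.finBasisOfFinrankEq F (D i) (hD.finrank_eq i)
  let b := ((isInternal hD).collectedBasis bs).reindex
    ((Equiv.sigmaEquivProd (Fin t) (Fin m)).trans e.symm)
  refine ⟨e, glOfEquiv ((Pi.basisFun F ι).equiv b (Equiv.refl ι)), fun a => ?_⟩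
  rw [glOfEquiv_mulVec, ← Pi.basisFun_apply, Module.Basis.equiv_apply, Equiv.refl_apply]
  simp only [b, Module.Basis.reindex_apply, DirectSum.IsInternal.collectedBasis_coe]
  exact Submodule.coe_mem _

variable {e : ι ≃ Fin t × Fin m} {P : GL ι F}
  (hP : ∀ a, (P : Matrix ι ι F) *ᵥ Pi.single a 1 ∈ D (e a).1)
include hP

theorem conj_mem (hD : Cfsg.Geo.IsMDecomposition m D) {g : GL ι F}
    (hg : BlockMon (fun a => (e a).1) g) : P * g * P⁻¹ ∈ Cfsg.Geo.decompositionStabilizer D := by
  classical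
  obtain ⟨σ, hσ⟩ := hg
  refine mem_stabilizer_of_mapsTo hD fun i => ⟨σ i, fun x hx => ?_⟩
  set y := ((P⁻¹ : GL ι F) : Matrix ι ι F) *ᵥ x
  have hxy : (P : Matrix ι ι F) *ᵥ y = x := gl_mulVec_inv P x
  have hsum : ∀ y : ι → F, (P : Matrix ι ι F) *ᵥ y =
      ∑ k : Fin t, ∑ a with (e a).1 = k, y a • ((P : Matrix ι ι F) *ᵥ Pi.single a 1) := by
    intro y
    rw [Finset.sum_fiberwise]
    conv_lhs => rw [← Finset.univ_sum_single y, mulVec_sum]
    refine Finset.sum_congr rfl fun a _ => ?_
    rw [← mulVec_smul, ← Pi.single_smul, smul_eq_mul, mul_one]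
  have hmem : ∀ (y : ι → F) k, (∑ a with (e a).1 = k, y a • ((P : Matrix ι ι F) *ᵥ Pi.single a 1)) ∈ D k :=
    fun y k => Submodule.sum_mem _ fun a ha => Submodule.smul_mem _ _ (by
      have := hP a
      rwa [(Finset.mem_filter.1 ha).2] at this)
  -- the coordinates of `x` outside the block vanish
  have hy : ∀ a, (e a).1 ≠ i → y a = 0 := by
    intro a ha
    have h0 : comp hD (e a).1 x = 0 := comp_other hD ha hx
    rw [← hxy, hsum y, comp_of_sum hD (hmem y)] at h0
    set z : ι → F := fun b => if (e b).1 = (e a).1 then y b else 0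
    have hz : (P : Matrix ι ι F) *ᵥ z = 0 := by
      rw [hsum z, Finset.sum_eq_single (e a).1, ← h0]
      · refine Finset.sum_congr rfl fun b hb => ?_
        simp [z, (Finset.mem_filter.1 hb).2]
      · intro k _ hk
        refine Finset.sum_eq_zero fun b hb => ?_
        simp [z, (Finset.mem_filter.1 hb).2, hk]
      · simp
    have := congrFun (gl_mulVec_injective P (show (P : Matrix ι ι F) *ᵥ z = (P : Matrix ι ι F) *ᵥ 0 by
      rw [hz, mulVec_zero])) a
    simpa [z] using this
  rw [gl_mul_mulVec, gl_mul_mulVec, hsum, Finset.sum_eq_single (σ i) (fun k _ hk => ?_) (by simp)]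
  · exact hmem _ _
  · refine Finset.sum_eq_zero fun a ha => ?_
    have hga : ((g : Matrix ι ι F) *ᵥ y) a = 0 := by
      refine Finset.sum_eq_zero fun b _ => ?_
      by_contra hne
      have h1 := hσ a b (left_ne_zero_of_mul hne)
      have h2 : (e b).1 = i := by
        by_contra h
        exact right_ne_zero_of_mul hne (hy b h)
      exact hk ((Finset.mem_filter.1 ha).2.symm.trans (h1.trans (congrArg σ h2)))
    rw [hga, zero_smul]

theorem conj_tv_not_mem (hD : Cfsg.Geo.IsMDecomposition m D) {a b : ι} (hab : (e a).1 ≠ (e b).1) :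
    P * tv (Pi.single a (1 : F)) (Pi.single b 1) * P⁻¹ ∉ Cfsg.Geo.decompositionStabilizer D := by
  intro h
  obtain ⟨σ, hσ⟩ := exists_image_of_mem h
  have hne : a ≠ b := fun e => hab (by rw [e])
  have h1 := hσ _ _ (hP b)
  rw [gl_mul_mulVec, gl_mul_mulVec, gl_inv_mulVec, tv_mulVec (by simp [hne]), single_dotProduct,
    Pi.single_eq_same, mul_one, one_smul, mulVec_add] at h1
  have hne0 : ∀ c, (P : Matrix ι ι F) *ᵥ Pi.single c (1 : F) ≠ 0 := fun c h => by
    have := congrFun (gl_mulVec_injective P (show (P : Matrix ι ι F) *ᵥ Pi.single c (1 : F) =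
      (P : Matrix ι ι F) *ᵥ 0 by rw [h, mulVec_zero])) c
    simp at this
  rcases eq_or_ne (σ (e b).1) (e a).1 with hs | hs
  · have := comp_other hD (by rw [hs]; exact Ne.symm hab) h1 (j := (e b).1)
    rw [map_add, comp_self hD (hP b), comp_other hD (Ne.symm hab) (hP a), add_zero] at this
    exact hne0 b this
  · have := comp_other hD (Ne.symm hs) h1 (j := (e a).1)
    rw [map_add, comp_self hD (hP a), comp_other hD hab (hP b), zero_add] at this
    exact hne0 a this

end Cfsg.Agent.Lib.DecompMax.Frame
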