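import Cfsg.Agent.Lib.DecompMax.Blocks

/-!
Overgroups of block-monomial groups with blocks of size at least two: an elementary transvection
between two blocks.
-/

set_option autoImplicit false

namespace Cfsg.Agent.Lib.DecompMax.Large

open Matrix Cfsg.Agent.Lib.Subspaces.Transvection Cfsg.Agent.Lib.DecompMax.Blocks

variable {ι : Type} [Fintype ι] [DecidableEq ι] {F : Type*} [Field F] {B : Type} [DecidableEq B]

theorem tv_comm' {v w ψ φ : ι → F} (h1 : ψ ⬝ᵥ v = 0) (h2 : φ ⬝ᵥ w = 0) (h3 : φ ⬝ᵥ v = 0) :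
    tv v ψ * tv w φ * (tv v ψ)⁻¹ * (tv w φ)⁻¹ = tv v ((ψ ⬝ᵥ w) • φ) := by
  have hc : φ ᵥ* (((tv v ψ)⁻¹ : GL ι F) : Matrix ι ι F) = φ := by
    rw [tv_inv h1, coe_tv (by rw [neg_dotProduct, h1, neg_zero]), vecMul_add, vecMul_one, vecMul_vecMulVec,
      h3]
    simp
  rw [conj_tv _ h2, hc, tv_mulVec h1, tv_inv h2]
  have h4 : φ ⬝ᵥ (w + (ψ ⬝ᵥ w) • v) = 0 := by simp [h2, h3]
  have e : tv w (-φ) = tv (-w) φ := by
    rw [show (-w) = (-1 : F) • w by simp, tv_smul h2]; simp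
  rw [e, tv_mul_axis h4 (by rw [dotProduct_neg, h2, neg_zero]), ← tv_smul h3]
  congr 1
  abel

variable {β : ι → B} {M : Subgroup (GL ι F)} (S : Setting β M)
include S

theorem win_center {a χ : ι → F} (hχa : χ ⬝ᵥ a = 0) (hM : tv a χ ∈ M) {p l q : ι} (hpl : p ≠ l)
    (hb : β p = β l) (hap : a p = 0) (hl : χ l ≠ 0) (hq : β q ≠ β p) (haq : a q ≠ 0)
    (hpart : ∀ x : ι, ∃ y, y ≠ x ∧ β y = β x) : Off β M := by
  have h1 : tv a (χ l • Pi.single p 1) ∈ M := by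
    have hB := S.tv_mem hb.symm hpl.symm 1
    have := M.mul_mem (M.mul_mem (M.mul_mem hM hB) (M.inv_mem hM)) (M.inv_mem hB)
    rwa [tv_comm' hχa (by simp [hpl]) (by simp [hap]), dotProduct_single, mul_one] at this
  obtain ⟨r, hrq, hrb⟩ := hpart q
  have hrp : r ≠ p := fun e => hq (by rw [← hrb, e])
  refine ⟨r, p, a q * χ l, fun e => hq (by rw [← hrb, e]), mul_ne_zero haq hl, ?_⟩
  have hB := S.tv_mem hrb hrq 1
  have := M.mul_mem (M.mul_mem (M.mul_mem hB h1) (M.inv_mem hB)) (M.inv_mem h1)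
  rw [tv_comm' (by simp [hrq.symm]) (by simp [hap]) (by simp [hrp]), single_dotProduct, one_mul,
    smul_smul, ← tv_smul (by simp [hrp]), ← Pi.single_smul, smul_eq_mul, mul_one] at this
  exact this

theorem win_axis {a χ : ι → F} (hχa : χ ⬝ᵥ a = 0) (hM : tv a χ ∈ M) {q r l : ι} (hrq : r ≠ q)
    (hb : β r = β q) (haq : a q ≠ 0) (hr : χ r = 0) (hl : β l ≠ β r) (hχl : χ l ≠ 0)
    (hpart : ∀ x : ι, ∃ y, y ≠ x ∧ β y = β x) : Off β M := by
  have hB := S.tv_mem hb hrq 1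
  have h1 := M.mul_mem (M.mul_mem (M.mul_mem hB hM) (M.inv_mem hB)) (M.inv_mem hM)
  rw [tv_comm' (by simp [hrq.symm]) hχa (by simp [hr]), single_dotProduct, one_mul] at h1
  obtain ⟨p, hpl, hpb⟩ := hpart l
  exact win_center S (by rw [smul_dotProduct]; simp [hr]) h1 hpl hpb
    (by simp [show p ≠ r from fun e => hl (by rw [← hpb, e])]) (by simp [haq, hχl])
    (q := r) (by rw [hpb]; exact Ne.symm hl) (by simp) hpart

/-- Normal form of a block of a transvection when there is no elementary one between blocks. -/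
theorem step {a χ : ι → F} (hχa : χ ⬝ᵥ a = 0) (hM : tv a χ ∈ M) {l q : ι} (hl : χ l ≠ 0)
    (hq : β q ≠ β l) (haq : a q ≠ 0) (hpart : ∀ x : ι, ∃ y, y ≠ x ∧ β y = β x) (hoff : ¬ Off β M) :
    ∃ (a' χ' : ι → F) (u : ι), χ' ⬝ᵥ a' = 0 ∧ tv a' χ' ∈ M ∧ β u = β l ∧ u ≠ l ∧
      (∀ x, β x = β l → x = u ∨ x = l) ∧ a' u ≠ 0 ∧ a' l = 0 ∧ χ' u = 0 ∧ χ' l ≠ 0 ∧
      ∀ x, β x ≠ β l → a' x = a x ∧ χ' x = χ x := by
  obtain ⟨u, hul, hub⟩ := hpart l
  have hblock : ∀ p, p ≠ l → β p = β l → a p ≠ 0 := fun p hp hpb h =>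
    hoff (win_center S hχa hM hp hpb h hl (q := q) (by rw [hpb]; exact hq) haq hpart)
  have hau := hblock u hul hub
  -- clear the entry at `l`
  have hmove : ∀ (a χ : ι → F), χ ⬝ᵥ a = 0 → tv a χ ∈ M → a u ≠ 0 → ∀ p, p ≠ u → β p = β u →
      ∃ a' χ' : ι → F, χ' ⬝ᵥ a' = 0 ∧ tv a' χ' ∈ M ∧ a' p = 0 ∧ χ' u = χ u + a p / a u * χ p ∧
        (∀ x, x ≠ p → a' x = a x) ∧ (∀ x, x ≠ u → χ' x = χ x) := by
    intro a χ hχa hM hau p hpu hpb
    set c := -(a p / a u)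
    have hB := S.tv_mem hpb hpu c
    have h := M.mul_mem (M.mul_mem hB hM) (M.inv_mem hB)
    rw [conj_tv _ hχa] at h
    have h0 : (Pi.single u (1 : F) : ι → F) ⬝ᵥ Pi.single p c = 0 := by simp [hpu.symm]
    have e1 : (tv (Pi.single p c) (Pi.single u 1) : Matrix ι ι F) *ᵥ a = a + a u • Pi.single p c := by
      rw [tv_mulVec h0, single_dotProduct, one_mul]
    have e2 : χ ᵥ* (((tv (Pi.single p c) (Pi.single u 1))⁻¹ : GL ι F) : Matrix ι ι F) =
        χ + (-(χ p * c)) • Pi.single u 1 := by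
      rw [tv_inv h0, coe_tv (by rw [neg_dotProduct, h0, neg_zero]), vecMul_add, vecMul_one,
        vecMul_vecMulVec, dotProduct_single, neg_smul, smul_neg]
    rw [e1, e2] at h
    refine ⟨_, _, ?_, h, ?_, ?_, fun x hx => ?_, fun x hx => ?_⟩
    · rw [← e1, ← e2, vecMul_dot, hχa]
    · simp [c]; field_simp; ring
    · simp [c]; ring
    · simp [hx]
    · simp [hx]
  obtain ⟨a', χ', h0', hM', hl0, hu', ha', hχ'⟩ := hmove a χ hχa hM hau l (Ne.symm hul) hub.symm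
  have hq' : a' q ≠ 0 := by rw [ha' q (fun e => hq (congrArg β e))]; exact haq
  have honly : ∀ p, p ≠ l → β p = β l → χ' p = 0 := fun p hp hpb => by
    by_contra hne
    exact hoff (win_center S h0' hM' hp.symm hpb.symm hl0 hne (q := q) hq hq' hpart)
  have hl' : χ' l ≠ 0 := by rw [hχ' l (Ne.symm hul)]; exact hl
  refine ⟨a', χ', u, h0', hM', hub, hul, fun x hx => ?_, by rw [ha' u hul]; exact hau, hl0, honly u hul hub,
    hl', fun x hx => ⟨ha' x (fun e => hx (congrArg β e)), hχ' x (fun e => hx (by rw [e, hub]))⟩⟩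
  by_contra hne
  push Not at hne
  have hau' : a' u ≠ 0 := by rw [ha' u hul]; exact hau
  obtain ⟨a'', χ'', h0'', hM'', hx0, -, ha'', hχ''⟩ := hmove a' χ' h0' hM' hau' x hne.1 (hx.trans hub.symm)
  refine hoff (win_center S h0'' hM'' hne.2 hx hx0 ?_ (q := q) (by rw [hx]; exact hq) ?_ hpart)
  · rw [hχ'' l (Ne.symm hul)]; exact hl'
  · rw [ha'' q (fun e => hq (by rw [e, hx]))]; exact hq'

/-- A transvection not inside one block gives an elementary one between blocks. -/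
theorem off_of_tv {a χ : ι → F} (hχa : χ ⬝ᵥ a = 0) (hM : tv a χ ∈ M) {l q : ι} (hl : χ l ≠ 0)
    (hq : β q ≠ β l) (haq : a q ≠ 0) (hpart : ∀ x : ι, ∃ y, y ≠ x ∧ β y = β x)
    (hcard : 5 ≤ Fintype.card ι)
    (hd : ∀ u v : ι, u ≠ v → (∀ x, β x = β v → x = u ∨ x = v) → ∃ d : F, d ≠ 0 ∧ d ≠ 1) :
    Off β M := by
  by_contra hoff
  obtain ⟨a₁, χ₁, u, h₁, hM₁, hub, hul, honly, hau, hal, hχu, hχl, hrest⟩ :=
    step S hχa hM hl hq haq hpart hoff
  have haq₁ : a₁ q ≠ 0 := by rw [(hrest q hq).1]; exact haq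
  obtain ⟨l₂, hl₂b, hl₂⟩ : ∃ l₂, β l₂ = β q ∧ χ₁ l₂ ≠ 0 := by
    by_contra hno
    push Not at hno
    obtain ⟨r, hr, hrb⟩ := hpart q
    exact hoff (win_axis S h₁ hM₁ hr hrb haq₁ (hno r hrb) (l := l) (by rw [hrb]; exact Ne.symm hq) hχl hpart)
  have hub₂ : β u ≠ β l₂ := by rw [hub, hl₂b]; exact Ne.symm hq
  obtain ⟨a₂, χ₂, u₂, h₂, hM₂, hu₂b, hu₂l, honly₂, hau₂, hal₂, hχu₂, hχl₂, hrest₂⟩ :=
    step S h₁ hM₁ hl₂ hub₂ hau hpart hoff
  have hlb₂ : β l ≠ β l₂ := by rw [hl₂b]; exact Ne.symm hq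
  have hll₂ : l ≠ l₂ := fun e => hlb₂ (congrArg β e)
  have hal' : a₂ l = 0 := by rw [(hrest₂ l hlb₂).1]; exact hal
  have hχl' : χ₂ l ≠ 0 := by rw [(hrest₂ l hlb₂).2]; exact hχl
  obtain ⟨d, hd0, hd1⟩ := hd u l hul honly
  -- scaling two coordinates
  have hscale : ∀ (b χ : ι → F) (x y : ι), x ≠ y → χ ⬝ᵥ b = 0 → tv b χ ∈ M → b x = 0 → b y = 0 →
      ∃ ψ : ι → F, ψ ⬝ᵥ b = 0 ∧ tv b ψ ∈ M ∧ ψ x = (d⁻¹ - 1) * χ x ∧ ψ y = (d - 1) * χ y ∧
        ∀ z, z ≠ x → z ≠ y → ψ z = 0 := by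
    intro b χ x y hxy hχb hb hbx hby
    let D : ι → F := Function.update (Function.update 1 x d) y d⁻¹
    have hD : ∀ z, D z ≠ 0 := fun z => by
      by_cases h1 : z = y
      · subst h1; simp [D, hd0]
      by_cases h2 : z = x
      · subst h2; simp [D, h1, hd0]
      simp [D, h1, h2]
    have hdet : ∏ z, D z = 1 := by
      rw [Finset.prod_update_of_mem (Finset.mem_univ y), Finset.prod_update_of_mem (by simpa using hxy)]
      simp [hd0]
    have hmem := S.diag_mem hD hdet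
    have h := M.mul_mem (M.mul_mem (M.mul_mem hmem hb) (M.inv_mem hmem)) (M.inv_mem hb)
    rw [mono_conj_tv hD 1 hχb] at h
    have hb' : (fun z => D z * b ((1 : Equiv.Perm ι) z)) = b := funext fun z => by
      by_cases h1 : z = y
      · subst h1; simp [hby]
      by_cases h2 : z = x
      · subst h2; simp [hbx]
      simp [D, h1, h2]
    rw [hb'] at h
    have hχ' : (fun z => χ ((1 : Equiv.Perm ι) z) / D z) ⬝ᵥ b = 0 := by
      rw [← hχb]
      refine Finset.sum_congr rfl fun z _ => ?_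
      show χ z / D z * b z = χ z * b z
      by_cases h1 : z = y
      · subst h1; simp [hby]
      by_cases h2 : z = x
      · subst h2; simp [hbx]
      simp [D, h1, h2]
    rw [tv_inv hχb, tv_mul_center hχ' (by rw [neg_dotProduct, hχb, neg_zero])] at h
    refine ⟨_, by rw [add_dotProduct, hχ', neg_dotProduct, hχb]; simp, h, ?_, ?_, fun z h1 h2 => ?_⟩
    · simp [D, hxy]; ring
    · simp [D]; ring
    · simp [D, h1, h2]
  obtain ⟨ψ, hψ, hψM, hψl, hψl₂, hψ0⟩ := hscale a₂ χ₂ l l₂ hll₂ h₂ hM₂ hal' hal₂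
  -- the centre lives in two blocks
  have hsupp : ∀ z, β z ≠ β l → β z ≠ β l₂ → a₂ z = 0 := by
    intro z hz1 hz2
    by_contra hne
    obtain ⟨r, hr, hrb⟩ := hpart z
    refine hoff (win_axis S hψ hψM hr hrb hne
      (hψ0 r (fun e => hz1 (by rw [← hrb, e])) (fun e => hz2 (by rw [← hrb, e])))
      (l := l) (by rw [hrb]; exact Ne.symm hz1) ?_ hpart)
    rw [hψl]
    exact mul_ne_zero (sub_ne_zero.2 fun e => hd1 (inv_eq_one.1 e)) hχl'
  obtain ⟨w, hwu, hwl, hwu₂, hwl₂⟩ : ∃ w, w ≠ u ∧ w ≠ l ∧ w ≠ u₂ ∧ w ≠ l₂ := by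
    by_contra hall
    push Not at hall
    have hle : Fintype.card ι ≤ ({u, l, u₂, l₂} : Finset ι).card := Finset.card_le_card fun x _ => by
      simp only [Finset.mem_insert, Finset.mem_singleton]
      by_contra hx
      push Not at hx
      exact hx.2.2.2 (hall x hx.1 hx.2.1 hx.2.2.1)
    have h4 : ({u, l, u₂, l₂} : Finset ι).card ≤ 4 := Finset.card_le_four
    omega
  have haw : a₂ w = 0 := hsupp w (fun e => (honly w e).elim hwu hwl) (fun e => (honly₂ w e).elim hwu₂ hwl₂)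
  obtain ⟨ψ', hψ', hψ'M, hψ'l, hψ'w, hψ'0⟩ := hscale a₂ ψ l w (Ne.symm hwl) hψ hψM hal' haw
  -- the axis is now concentrated at `l`
  have hr0 : ψ' l₂ = 0 := hψ'0 l₂ hll₂.symm (Ne.symm hwl₂)
  refine hoff (win_axis S hψ' hψ'M (Ne.symm hu₂l) hu₂b.symm hau₂ hr0 (l := l) hlb₂ ?_ hpart)
  rw [hψ'l, hψl]
  exact mul_ne_zero (sub_ne_zero.2 fun e => hd1 (inv_eq_one.1 e))
    (mul_ne_zero (sub_ne_zero.2 fun e => hd1 (inv_eq_one.1 e)) hχl')

/-- Outside the block-monomial group there is a transvection not inside a block. -/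
theorem exists_tv [Finite B] (hsurj : Function.Surjective β) {g : GL ι F} (hgM : g ∈ M) (hg : ¬ BlockMon β g)
    (hpart : ∀ x : ι, ∃ y, y ≠ x ∧ β y = β x) :
    ∃ (a χ : ι → F) (l q : ι), χ ⬝ᵥ a = 0 ∧ tv a χ ∈ M ∧ χ l ≠ 0 ∧ β q ≠ β l ∧ a q ≠ 0 := by
  classical
  by_contra hc
  push Not at hc
  set G := (g : Matrix ι ι F)
  set H := ((g⁻¹ : GL ι F) : Matrix ι ι F)
  have hin : ∀ x y, x ≠ y → β x = β y → ∀ q l, H y l ≠ 0 → G q x ≠ 0 → β q = β l := by
    intro x y hxy hb q l hl hq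
    by_contra hne
    have h := M.mul_mem (M.mul_mem hgM (S.tv_mem hb hxy 1)) (M.inv_mem hgM)
    rw [conj_tv _ (by simp [hxy.symm]), mulVec_single_one, single_one_vecMul] at h
    refine hq (hc _ _ l q ?_ h hl hne)
    have := vecMul_dot g (Pi.single y (1 : F)) (Pi.single x 1)
    rw [mulVec_single_one, single_one_vecMul] at this
    rw [this]; simp [hxy.symm]
  have hrow : ∀ x, ∃ l, H x l ≠ 0 ∧ G l x ≠ 0 := by
    intro x
    have h : (H * G) x x = 1 := by rw [← Units.val_mul, inv_mul_cancel]; simp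
    rw [Matrix.mul_apply] at h
    obtain ⟨l, -, hl⟩ := Finset.exists_ne_zero_of_sum_ne_zero (by rw [h]; exact one_ne_zero)
    exact ⟨l, left_ne_zero_of_mul hl, right_ne_zero_of_mul hl⟩
  choose s hs1 hs2 using hrow
  have hcol : ∀ x y, β x = β y → ∀ q, G q x ≠ 0 → β q = β (s y) := by
    intro x y hb q hq
    rcases eq_or_ne x y with rfl | hxy
    · obtain ⟨z, hzx, hzb⟩ := hpart x
      rw [hin x z hzx.symm hzb.symm q (s z) (hs1 z) hq, hin x z hzx.symm hzb.symm (s x) (s z) (hs1 z) (hs2 x)]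
    · exact hin x y hxy hb q (s y) (hs1 y) hq
  choose sec hsec using hsurj
  let τ : B → B := fun k => β (s (sec k))
  have hτ : ∀ q x, G q x ≠ 0 → β q = τ (β x) := fun q x hq => hcol x _ (hsec (β x)).symm q hq
  have hτs : Function.Surjective τ := by
    intro k
    obtain ⟨x, hx⟩ : ∃ x, G (sec k) x ≠ 0 := by
      have h : (G * H) (sec k) (sec k) = 1 := by rw [← Units.val_mul, mul_inv_cancel]; simp
      rw [Matrix.mul_apply] at h
      obtain ⟨l, -, hl⟩ := Finset.exists_ne_zero_of_sum_ne_zero (by rw [h]; exact one_ne_zero)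
      exact ⟨l, left_ne_zero_of_mul hl⟩
    exact ⟨β x, by rw [← hτ _ _ hx, hsec]⟩
  exact hg ⟨Equiv.ofBijective τ ⟨Finite.injective_iff_surjective.2 hτs, hτs⟩, hτ⟩

end Cfsg.Agent.Lib.DecompMax.Large
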