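import Mathlib.FieldTheory.Finite.Basic
import Cfsg.Agent.Lib.DecompMax.Large

/-!
Groups containing all monomial matrices fixing a coordinate: either monomial or containing an
elementary transvection.
-/

set_option autoImplicit false

namespace Cfsg.Agent.Lib.DecompMax.Homology

open Matrix Cfsg.Agent.Lib.Subspaces.Transvection Cfsg.Agent.Lib.DecompMax.Blocks

variable {ι : Type} [Fintype ι] [DecidableEq ι] {F : Type*} [Field F]

open Classical in
/-- The homology `x ↦ x + c (α ⬝ x) a`. -/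
noncomputable def hom (a α : ι → F) (c : F) : GL ι F :=
  if h : α ⬝ᵥ a = 1 ∧ 1 + c ≠ 0 then
    ⟨1 + c • vecMulVec a α, 1 + (-c / (1 + c)) • vecMulVec a α, by
      rw [add_mul, mul_add, mul_add, one_mul, one_mul, mul_one, smul_mul_smul_comm, vecMulVec_mul_vecMulVec,
        h.1, one_smul, add_assoc, ← add_smul, ← add_smul,
        show -c / (1 + c) + (c + c * (-c / (1 + c))) = 0 by field_simp [h.2]; ring, zero_smul, add_zero], by
      rw [add_mul, mul_add, mul_add, one_mul, one_mul, mul_one, smul_mul_smul_comm, vecMulVec_mul_vecMulVec,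
        h.1, one_smul, add_assoc, ← add_smul, ← add_smul,
        show c + (-c / (1 + c) + -c / (1 + c) * c) = 0 by field_simp [h.2]; ring, zero_smul, add_zero]⟩
  else 1

theorem hom_mulVec {a α : ι → F} {c : F} (h : α ⬝ᵥ a = 1) (hc : 1 + c ≠ 0) (x : ι → F) :
    (hom a α c : Matrix ι ι F) *ᵥ x = x + (c * (α ⬝ᵥ x)) • a := by
  rw [hom, dif_pos ⟨h, hc⟩]
  simp only [add_mulVec, one_mulVec, smul_mulVec, vecMulVec_mulVec, op_smul_eq_smul, smul_smul]

theorem hom_vecMul_inv {a α : ι → F} {c : F} (h : α ⬝ᵥ a = 1) (hc : 1 + c ≠ 0) (φ : ι → F) :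
    φ ᵥ* (((hom a α c)⁻¹ : GL ι F) : Matrix ι ι F) = φ + (-c / (1 + c) * (φ ⬝ᵥ a)) • α := by
  rw [hom, dif_pos ⟨h, hc⟩]
  show φ ᵥ* (1 + (-c / (1 + c)) • vecMulVec a α) = _
  rw [vecMul_add, vecMul_one, vecMul_smul, vecMul_vecMulVec, smul_smul]

theorem hom_conj (g : GL ι F) {a α : ι → F} {c : F} (h : α ⬝ᵥ a = 1) (hc : 1 + c ≠ 0) :
    g * hom a α c * g⁻¹ =
      hom ((g : Matrix ι ι F) *ᵥ a) (α ᵥ* ((g⁻¹ : GL ι F) : Matrix ι ι F)) c := by
  refine gl_ext fun x => ?_
  rw [gl_mul_mulVec, gl_mul_mulVec, hom_mulVec h hc, hom_mulVec (by rw [vecMul_dot, h]) hc, mulVec_add,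
    gl_mulVec_inv, mulVec_smul, dotProduct_mulVec]

theorem mono_diag_eq {j : ι} {l : F} (hl : l ≠ 0) :
    mono (Function.update (1 : ι → F) j l) 1 = hom (Pi.single j 1) (Pi.single j 1) (l - 1) := by
  have hd : ∀ x, Function.update (1 : ι → F) j l x ≠ 0 := fun x => by
    by_cases h : x = j
    · subst h; simpa using hl
    · simp [h]
  refine gl_ext fun x => funext fun y => ?_
  rw [mono_mulVec hd, hom_mulVec (by simp) (by simpa using hl)]
  by_cases h : y = j
  · subst h; simp; ring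
  · simp [h]

/-- The group contains all homologies with centre `a` and axis `α`. -/
def HasHom (Γ : Subgroup (GL ι F)) (a α : ι → F) : Prop :=
  α ⬝ᵥ a = 1 ∧ ∀ c : F, 1 + c ≠ 0 → hom a α c ∈ Γ

/-- All monomial matrices fixing the coordinate `k` lie in `Γ`, which fixes it. -/
structure Setting (k : ι) (Γ : Subgroup (GL ι F)) : Prop where
  col : ∀ g ∈ Γ, (g : Matrix ι ι F) *ᵥ Pi.single k 1 = Pi.single k 1
  row : ∀ g ∈ Γ, Pi.single k 1 ᵥ* (g : Matrix ι ι F) = Pi.single k 1
  mem : ∀ (d : ι → F) (σ : Equiv.Perm ι), (∀ l, d l ≠ 0) → σ k = k → d k = 1 → mono d σ ∈ Γ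

/-- An elementary transvection away from `k`. -/
def Elem (k : ι) (Γ : Subgroup (GL ι F)) : Prop :=
  ∃ (a b : ι) (c : F), a ≠ b ∧ a ≠ k ∧ b ≠ k ∧ c ≠ 0 ∧ tv (Pi.single a c) (Pi.single b 1) ∈ Γ

variable {k : ι} {Γ : Subgroup (GL ι F)} (S : Setting k Γ)
include S

theorem hasHom_single {j : ι} (hj : j ≠ k) : HasHom Γ (Pi.single j 1) (Pi.single j 1) := by
  refine ⟨by simp, fun c hc => ?_⟩
  have := S.mem (Function.update (1 : ι → F) j (1 + c)) 1 (fun x => by
    by_cases h : x = j
    · subst h; simpa using hc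
    · simp [h]) rfl (by simp [Ne.symm hj])
  rwa [mono_diag_eq hc, add_sub_cancel_left] at this

omit S in
theorem HasHom.conj {a α : ι → F} (h : HasHom Γ a α) {g : GL ι F} (hg : g ∈ Γ) :
    HasHom Γ ((g : Matrix ι ι F) *ᵥ a) (α ᵥ* ((g⁻¹ : GL ι F) : Matrix ι ι F)) := by
  refine ⟨by rw [vecMul_dot, h.1], fun c hc => ?_⟩
  rw [← hom_conj g h.1 hc]
  exact Γ.mul_mem (Γ.mul_mem hg (h.2 c hc)) (Γ.inv_mem hg)

theorem coord {a α : ι → F} (h : HasHom Γ a α) [Finite F] (hF : 3 ≤ Nat.card F) : a k = 0 ∧ α k = 0 := by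
  obtain ⟨c, hc0, hc⟩ : ∃ c : F, c ≠ 0 ∧ 1 + c ≠ 0 := by
    by_contra hall
    push Not at hall
    haveI := Fintype.ofFinite F
    classical
    have hle : (Finset.univ : Finset F) ⊆ {0, -1} := fun c _ => by
      by_cases h0 : c = 0
      · simp [h0]
      · simp [eq_neg_of_add_eq_zero_right (hall c h0)]
    have h2 := (Finset.card_le_card hle).trans Finset.card_le_two
    rw [Finset.card_univ, ← Nat.card_eq_fintype_card] at h2
    omega
  have ha0 : a ≠ 0 := fun e => by
    have := h.1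
    rw [e, dotProduct_zero] at this
    exact zero_ne_one this
  have hα0 : α ≠ 0 := fun e => by
    have := h.1
    rw [e, zero_dotProduct] at this
    exact zero_ne_one this
  constructor
  · by_contra hk
    obtain ⟨l, hl⟩ := Function.ne_iff.1 hα0
    have h1 := congrArg (fun φ : ι → F => φ ⬝ᵥ Pi.single l 1) (S.row _ (h.2 c hc))
    rw [← dotProduct_mulVec, hom_mulVec h.1 hc] at h1
    simp only [dotProduct_add, dotProduct_smul, single_dotProduct,
      one_mul, dotProduct_single, mul_one, smul_eq_mul, add_eq_left, mul_eq_zero] at h1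
    exact h1.elim (fun h2 => h2.elim hc0 hl) hk
  · by_contra hk
    have h1 := S.col _ (h.2 c hc)
    rw [hom_mulVec h.1 hc, add_eq_left, smul_eq_zero, mul_eq_zero, dotProduct_single, mul_one] at h1
    exact h1.elim (fun h2 => h2.elim hc0 hk) ha0

/-- An elementary transvection from one with a coordinate centre. -/
theorem elem_of_center [Finite F] (hF : 3 ≤ Nat.card F) {i : ι} (hik : i ≠ k) {χ : ι → F} (hχ : χ i = 0)
    (hχ0 : χ ≠ 0) (hM : tv (Pi.single i 1) χ ∈ Γ) : Elem k Γ := by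
  obtain ⟨l, hl⟩ := Function.ne_iff.1 hχ0
  simp only [Pi.zero_apply] at hl
  have hil : i ≠ l := fun e => hl (e ▸ hχ)
  have hlk : l ≠ k := fun e => by
    have h1 := S.col _ hM
    rw [tv_mulVec (by simpa using hχ), add_eq_left, smul_eq_zero, dotProduct_single, mul_one] at h1
    exact h1.elim (fun h => hl (e ▸ h)) (by simp)
  obtain ⟨μ, hμ0, hμ⟩ : ∃ μ : F, μ ≠ 0 ∧ μ⁻¹ - 1 ≠ 0 := by
    by_contra hall
    push Not at hall
    haveI := Fintype.ofFinite F
    classical
    have hle : (Finset.univ : Finset F) ⊆ {0, 1} := fun c _ => by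
      by_cases h0 : c = 0
      · simp [h0]
      · simp [inv_eq_one.1 (sub_eq_zero.1 (hall c h0))]
    have h2 := (Finset.card_le_card hle).trans Finset.card_le_two
    rw [Finset.card_univ, ← Nat.card_eq_fintype_card] at h2
    omega
  have hd : ∀ x, Function.update (1 : ι → F) l μ x ≠ 0 := fun x => by
    by_cases h : x = l
    · subst h; simpa using hμ0
    · simp [h]
  have hmem := S.mem _ 1 hd rfl (by simp [Ne.symm hlk])
  have h := Γ.mul_mem (Γ.mul_mem (Γ.mul_mem hmem hM) (Γ.inv_mem hmem)) (Γ.inv_mem hM)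
  have e1 : (fun x => Function.update (1 : ι → F) l μ x * (Pi.single i (1 : F) : ι → F) ((1 : Equiv.Perm ι) x))
      = Pi.single i 1 := funext fun x => by
    by_cases h : x = l
    · subst h; simp [hil.symm]
    · simp [h]
  rw [mono_conj_tv hd 1 (by simpa using hχ), e1, tv_inv (by simpa using hχ),
    tv_mul_center (by simp [hil, hχ]) (by simpa using hχ)] at h
  refine ⟨i, l, (μ⁻¹ - 1) * χ l, hil, hik, hlk, mul_ne_zero hμ hl, ?_⟩
  rw [show (Pi.single i ((μ⁻¹ - 1) * χ l) : ι → F) = ((μ⁻¹ - 1) * χ l) • Pi.single i 1 by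
    rw [← Pi.single_smul, smul_eq_mul, mul_one], tv_smul (by simp [hil.symm]), ← Pi.single_smul, smul_eq_mul,
    mul_one]
  convert h using 2
  funext x
  by_cases hx : x = l
  · subst hx; simp; ring
  · simp [hx]

/-- Two homologies with a common coordinate centre. -/
theorem elem_of_two [Finite F] (hF : 3 ≤ Nat.card F) {i : ι} (hik : i ≠ k) {Y : ι → F}
    (hY : HasHom Γ (Pi.single i 1) Y) (hne : Y ≠ Pi.single i 1) : Elem k Γ := by
  obtain ⟨c, hc0, hc⟩ : ∃ c : F, c ≠ 0 ∧ 1 + c ≠ 0 := by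
    by_contra hall
    push Not at hall
    haveI := Fintype.ofFinite F
    classical
    have hle : (Finset.univ : Finset F) ⊆ {0, -1} := fun c _ => by
      by_cases h0 : c = 0
      · simp [h0]
      · simp [eq_neg_of_add_eq_zero_right (hall c h0)]
    have h2 := (Finset.card_le_card hle).trans Finset.card_le_two
    rw [Finset.card_univ, ← Nat.card_eq_fintype_card] at h2
    omega
  have hYi : Y i = 1 := by simpa using hY.1
  have hs := hasHom_single S hik
  have hc' : 1 + (-c / (1 + c)) ≠ 0 := by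
    rw [show 1 + -c / (1 + c) = 1 / (1 + c) by field_simp [hc]; ring]
    exact div_ne_zero one_ne_zero hc
  have h := Γ.mul_mem (hY.2 c hc) (hs.2 _ hc')
  have e : hom (Pi.single i 1) Y c * hom (Pi.single i 1) (Pi.single i 1) (-c / (1 + c)) =
      tv (Pi.single i 1) (c • (Y - Pi.single i 1)) := by
    refine gl_ext fun x => ?_
    rw [gl_mul_mulVec, hom_mulVec hY.1 hc, hom_mulVec hs.1 hc', tv_mulVec (by simp [hYi]), add_assoc,
      ← add_smul]
    congr 2
    simp [dotProduct_add, sub_dotProduct, hYi]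
    field_simp
    ring
  rw [e] at h
  exact elem_of_center S hF hik (by simp [hYi]) (smul_ne_zero hc0 (sub_ne_zero.2 hne)) h

/-- Supports of centre and axis agree, unless there is an elementary transvection. -/
theorem supp_eq [Finite F] (hF : 3 ≤ Nat.card F) (hel : ¬ Elem k Γ) {a α : ι → F} (h : HasHom Γ a α) (i : ι) :
    a i = 0 ↔ α i = 0 := by
  obtain ⟨hak, hαk⟩ := coord S h hF
  rcases eq_or_ne i k with rfl | hik
  · simp [hak, hαk]
  obtain ⟨c, hc0, hc⟩ : ∃ c : F, c ≠ 0 ∧ 1 + c ≠ 0 := by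
    by_contra hall
    push Not at hall
    haveI := Fintype.ofFinite F
    classical
    have hle : (Finset.univ : Finset F) ⊆ {0, -1} := fun c _ => by
      by_cases h0 : c = 0
      · simp [h0]
      · simp [eq_neg_of_add_eq_zero_right (hall c h0)]
    have h2 := (Finset.card_le_card hle).trans Finset.card_le_two
    rw [Finset.card_univ, ← Nat.card_eq_fintype_card] at h2
    omega
  have hs := hasHom_single S hik
  constructor
  · intro hai
    by_contra hαi
    -- the product of two homologies with centre `a`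
    have hi := hs.2 c hc
    have h2 := h.conj hi
    have e1 : (hom (Pi.single i 1) (Pi.single i 1) c : Matrix ι ι F) *ᵥ a = a := by
      rw [hom_mulVec hs.1 hc]; simp [hai]
    rw [e1, hom_vecMul_inv hs.1 hc, dotProduct_single, mul_one] at h2
    set t := -c / (1 + c) * α i
    have hc' : 1 + (-c / (1 + c)) ≠ 0 := by
      rw [show 1 + -c / (1 + c) = 1 / (1 + c) by field_simp [hc]; ring]
      exact div_ne_zero one_ne_zero hc
    have h3 := Γ.mul_mem (h2.2 c hc) (h.2 _ hc')
    have e2 : hom a (α + t • Pi.single i 1) c * hom a α (-c / (1 + c)) = tv a ((c * t) • Pi.single i 1) := by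
      refine gl_ext fun x => ?_
      rw [gl_mul_mulVec, hom_mulVec h2.1 hc, hom_mulVec h.1 hc', tv_mulVec (by simp [hai]), add_assoc,
        ← add_smul]
      congr 2
      simp [dotProduct_add, add_dotProduct, hai, h.1]
      field_simp
      ring
    rw [e2] at h3
    obtain ⟨l, hl⟩ : ∃ l, a l ≠ 0 := by
      by_contra hno
      push Not at hno
      have := h.1
      rw [show a = 0 from funext hno, dotProduct_zero] at this
      exact zero_ne_one this
    have hli : l ≠ i := fun e => hl (e ▸ hai)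
    have hlk : l ≠ k := fun e => hl (e ▸ hak)
    obtain ⟨μ, hμ0, hμ⟩ : ∃ μ : F, μ ≠ 0 ∧ μ - 1 ≠ 0 := ⟨1 + c, hc, by simpa using hc0⟩
    have hd : ∀ x, Function.update (1 : ι → F) l μ x ≠ 0 := fun x => by
      by_cases h : x = l
      · subst h; simpa using hμ0
      · simp [h]
    have hmem := S.mem _ 1 hd rfl (by simp [Ne.symm hlk])
    have h4 := Γ.mul_mem (Γ.mul_mem (Γ.mul_mem hmem h3) (Γ.inv_mem hmem)) (Γ.inv_mem h3)
    have hax : ((c * t) • Pi.single i (1 : F)) ⬝ᵥ a = 0 := by simp [hai]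
    have e3 : (fun x => ((c * t) • Pi.single i (1 : F) : ι → F) ((1 : Equiv.Perm ι) x) /
        Function.update (1 : ι → F) l μ x) = (c * t) • Pi.single i 1 := funext fun x => by
      by_cases h : x = l
      · subst h; simp [hli]
      · simp [h]
    have e4 : (fun x => Function.update (1 : ι → F) l μ x * a ((1 : Equiv.Perm ι) x)) =
        a + (μ - 1) • a l • Pi.single l 1 := funext fun x => by
      by_cases h : x = l
      · subst h; simp; ring
      · simp [h]
    rw [mono_conj_tv hd 1 hax, e3, e4, tv_inv hax, ← neg_smul,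
      show tv a ((-(c * t)) • Pi.single i (1 : F)) = tv (-a) ((c * t) • Pi.single i 1) by
        rw [show (-a) = (-1 : F) • a by simp, tv_smul hax, smul_smul]; congr 2; ring,
      tv_mul_axis (by simp [hai, hli.symm]) (by simp [hai])] at h4
    refine hel ⟨l, i, (μ - 1) * a l * (c * t), hli, hlk, hik, mul_ne_zero (mul_ne_zero hμ hl)
      (mul_ne_zero hc0 (mul_ne_zero (div_ne_zero (neg_ne_zero.2 hc0) hc) hαi)), ?_⟩
    convert h4 using 1
    refine gl_ext fun x => ?_
    rw [tv_mulVec (by simp [hli.symm]), tv_mulVec (by simp [hai, hli.symm])]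
    funext y
    by_cases hy : y = l
    · subst hy; simp; ring
    · simp [hy]
  · intro hαi
    by_contra hai
    -- the homology at `i` moved by `x`
    have h2 := hs.conj (h.2 c hc)
    have e1 : (hom a α c : Matrix ι ι F) *ᵥ Pi.single i 1 = Pi.single i 1 := by
      rw [hom_mulVec h.1 hc]; simp [hαi]
    rw [e1, hom_vecMul_inv h.1 hc, single_dotProduct, one_mul] at h2
    refine hel (elem_of_two S hF hik h2 fun e => ?_)
    rw [add_eq_left, smul_eq_zero] at e
    refine e.elim (mul_ne_zero (div_ne_zero (neg_ne_zero.2 hc0) hc) hai) fun e' => ?_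
    have := h.1
    rw [e', zero_dotProduct] at this
    exact zero_ne_one this

/-- Two slopes through a coordinate plane. -/
def GoodPair (P : F) : Prop :=
  ∃ c c' : F, c ≠ 0 ∧ c' ≠ 0 ∧ 1 + c ≠ 0 ∧ 1 + c' ≠ 0 ∧ 1 + c * P ≠ 0 ∧ 1 + c' * P ≠ 0 ∧ c ≠ c' ∧
    c + c' + c * c' ≠ 0

/-- The plane argument. -/
theorem elem_of_product [Finite F] (hF : 3 ≤ Nat.card F) {a α : ι → F} (h : HasHom Γ a α) {j l : ι}
    (hlj : l ≠ j) (hal : a l ≠ 0) (hP0 : α j * a j ≠ 0) (hP1 : α j * a j ≠ 1)
    (hgood : GoodPair (α j * a j)) : Elem k Γ := by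
  by_contra hel
  obtain ⟨c, c', hc0, hc0', hc, hc', hcP, hcP', hne, hsum⟩ := hgood
  have haj : a j ≠ 0 := right_ne_zero_of_mul hP0
  have hαj : α j ≠ 0 := left_ne_zero_of_mul hP0
  have hjk : j ≠ k := fun e => haj (e ▸ (coord S h hF).1)
  have hs := hasHom_single S hjk
  -- choose the diagonal factor matching the images of the centre
  set μ := ((1 + c * (α j * a j)) * c') / (c * (1 + c' * (α j * a j)))
  have hμe : μ * (c * (1 + c' * (α j * a j))) = (1 + c * (α j * a j)) * c' :=
    div_mul_cancel₀ _ (mul_ne_zero hc0 hcP')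
  have hμ : μ ≠ 0 := div_ne_zero (mul_ne_zero hcP hc0') (mul_ne_zero hc0 hcP')
  have hd : 1 + (μ - 1) ≠ 0 := by simpa using hμ
  clear_value μ
  set g₁ := hom a α c
  set g₂ := hom (Pi.single j 1) (Pi.single j 1) (μ - 1) * hom a α c'
  have hg₁ : g₁ ∈ Γ := h.2 c hc
  have hg₂ : g₂ ∈ Γ := Γ.mul_mem (hs.2 _ hd) (h.2 c' hc')
  set v := a - a j • Pi.single j 1 with hv
  have hvj : v j = 0 := by simp [v]
  have hvl : v l = a l := by simp [v, hlj]
  have hαv : α ⬝ᵥ v = 1 - α j * a j := by simp [v, h.1]; ring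
  -- both images of the coordinate vector lie on one line
  have himg : (g₁ : Matrix ι ι F) *ᵥ Pi.single j 1 = (c / c') • ((g₂ : Matrix ι ι F) *ᵥ Pi.single j 1) := by
    simp only [g₁, g₂, gl_mul_mulVec, hom_mulVec hs.1 hd, hom_mulVec h.1 hc, hom_mulVec h.1 hc',
      dotProduct_single, mul_one]
    funext y
    by_cases hy : y = j
    · subst hy; simp; field_simp; linear_combination -hμe
    · simp [hy]; field_simp
  set g₀ := g₂⁻¹ * g₁
  have hg₀ : g₀ ∈ Γ := Γ.mul_mem (Γ.inv_mem hg₂) hg₁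
  have he : (g₀ : Matrix ι ι F) *ᵥ Pi.single j 1 = (c / c') • Pi.single j 1 := by
    rw [gl_mul_mulVec, himg, mulVec_smul, gl_inv_mulVec]
  have h2 := hs.conj hg₀
  rw [he] at h2
  set Y := Pi.single j 1 ᵥ* ((g₀⁻¹ : GL ι F) : Matrix ι ι F)
  have hcc : c / c' ≠ 0 := div_ne_zero hc0 hc0'
  have h3 : HasHom Γ (Pi.single j 1) ((c / c') • Y) := by
    refine ⟨by rw [smul_dotProduct, ← dotProduct_smul]; exact h2.1, fun b hb => ?_⟩
    have e : hom (Pi.single j 1) ((c / c') • Y) b = hom ((c / c') • Pi.single j 1) Y b := by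
      refine gl_ext fun x => ?_
      rw [hom_mulVec (by rw [smul_dotProduct, ← dotProduct_smul]; exact h2.1) hb, hom_mulVec h2.1 hb,
        smul_dotProduct, smul_smul, smul_eq_mul]
      ring_nf
    rw [e]; exact h2.2 b hb
  by_cases hY : (c / c') • Y = Pi.single j 1
  swap
  · exact hel (elem_of_two S hF hjk h3 hY)
  -- then `g₀` fixes `v` up to a scalar
  have hzero : ∀ x : ι → F, x j = 0 → (((g₀⁻¹ : GL ι F) : Matrix ι ι F) *ᵥ x) j = 0 := by
    intro x hx
    have := congrArg (fun φ : ι → F => φ ⬝ᵥ x) hY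
    simp only [smul_dotProduct, Y, ← dotProduct_mulVec, single_dotProduct, one_mul, hx, smul_eq_mul,
      mul_eq_zero] at this
    exact this.resolve_left hcc
  have hw := hzero v hvj
  set u := ((g₀⁻¹ : GL ι F) : Matrix ι ι F) *ᵥ v with hu
  -- `u` lies in the plane and has no `j` part
  have hg₁u : (g₁ : Matrix ι ι F) *ᵥ u = (g₂ : Matrix ι ι F) *ᵥ v := by
    rw [hu, show g₀⁻¹ = g₁⁻¹ * g₂ by simp [g₀], gl_mul_mulVec, gl_mulVec_inv]
  simp only [g₁, g₂, gl_mul_mulVec, hom_mulVec hs.1 hd, hom_mulVec h.1 hc, hom_mulVec h.1 hc', hαv,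
    single_dotProduct, one_mul] at hg₁u
  have hj := congrFun hg₁u j
  simp [hw, hvj] at hj
  -- the coordinate `j` and a coordinate off `j` give two linear relations
  set T := c * (α ⬝ᵥ u)
  have hu' : u = v + (c' * (1 - α j * a j)) • a + ((μ - 1) * (c' * (1 - α j * a j) * a j)) • Pi.single j 1
      - T • a := by
    have := hg₁u
    simp [hvj] at this
    rw [← this]; abel
  have hαu := congrArg (α ⬝ᵥ ·) hu'
  simp only [dotProduct_sub, dotProduct_add, dotProduct_smul, hαv, h.1, dotProduct_single, mul_one,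
    smul_eq_mul] at hαu
  set P := α j * a j with hP
  set Q := 1 - P
  have hT : T = μ * c' * Q := by
    refine mul_right_cancel₀ haj ?_
    linear_combination hj
  have hkey : μ * c' * Q * (1 + c) = c * Q * (1 + c' + (μ - 1) * c' * P) := by
    have : α ⬝ᵥ u = T / c := by simp [T, mul_div_cancel_left₀ _ hc0]
    rw [this, hT] at hαu
    field_simp at hαu
    simp only [hP] at *
    linear_combination hαu
  have hQ : Q ≠ 0 := sub_ne_zero.2 (Ne.symm hP1)
  have hkey' : μ * c' * (1 + c) = c * (1 + c' + (μ - 1) * c' * P) := by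
    refine mul_right_cancel₀ hQ ?_
    linear_combination hkey
  have hfin : (c - c') * (c + c' + c * c') = 0 := by
    simp only [hP] at *
    linear_combination (-c * (1 + c' * (α j * a j))) * hkey' + (c' * (1 + c - c * (α j * a j))) * hμe
  exact (mul_ne_zero (sub_ne_zero.2 hne) hsum) hfin

omit S in
theorem exists_two_of_not_mon (g : GL ι F) (hg : ¬ BlockMon id g) :
    ∃ j x y, x ≠ y ∧ (g : Matrix ι ι F) x j ≠ 0 ∧ (g : Matrix ι ι F) y j ≠ 0 := by
  by_contra h
  push Not at h
  have hcol : ∀ j, ∃ x, (g : Matrix ι ι F) x j ≠ 0 := fun j => by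
    by_contra hno
    push Not at hno
    have := congrFun (gl_mulVec_injective g (show (g : Matrix ι ι F) *ᵥ Pi.single j 1 =
      (g : Matrix ι ι F) *ᵥ 0 from funext fun x => by simp [hno x])) j
    simp at this
  choose s hs using hcol
  have huniq : ∀ x j, (g : Matrix ι ι F) x j ≠ 0 → x = s j := fun x j hx => by
    by_contra hne
    exact hx (h j (s j) x (Ne.symm hne) (hs j))
  have hsurj : Function.Surjective s := fun x => by
    have h1 : ((g : Matrix ι ι F) * ((g⁻¹ : GL ι F) : Matrix ι ι F)) x x = 1 := by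
      rw [← Units.val_mul, mul_inv_cancel]; simp
    rw [Matrix.mul_apply] at h1
    obtain ⟨j, -, hj⟩ := Finset.exists_ne_zero_of_sum_ne_zero (by rw [h1]; exact one_ne_zero)
    exact ⟨j, (huniq x j (left_ne_zero_of_mul hj)).symm⟩
  exact hg ⟨Equiv.ofBijective s ⟨Finite.injective_iff_surjective.2 hsurj, hsurj⟩, huniq⟩

omit S [Fintype ι] [DecidableEq ι] in
theorem goodPair_of_six [Finite F] (hF : 6 ≤ Nat.card F) (P : F) : GoodPair P := by
  classical
  haveI := Fintype.ofFinite F
  rw [Nat.card_eq_fintype_card] at hF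
  set V : Finset F := Finset.univ \ {0, -1, -1 / P}
  have hV : 2 < V.card := by
    have h1 := Finset.le_card_sdiff ({0, -1, -1 / P} : Finset F) Finset.univ
    have h2 := Finset.card_le_three (a := (0 : F)) (b := -1) (c := -1 / P)
    rw [Finset.card_univ] at h1
    have : Finset.univ \ {0, -1, -1 / P} = V := rfl
    rw [this] at h1
    omega
  have hmem : ∀ c ∈ V, c ≠ 0 ∧ 1 + c ≠ 0 ∧ 1 + c * P ≠ 0 := fun c hc => by
    simp only [V, Finset.mem_sdiff, Finset.mem_univ, Finset.mem_insert, Finset.mem_singleton, true_and,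
      not_or] at hc
    refine ⟨hc.1, fun e => hc.2.1 (eq_neg_of_add_eq_zero_right e), fun e => hc.2.2 ?_⟩
    rcases eq_or_ne P 0 with rfl | hP
    · simp at e
    rw [eq_div_iff hP]
    exact eq_neg_of_add_eq_zero_right e
  obtain ⟨c, hc, c', hc', c'', hc'', h1, h2, h3⟩ := Finset.two_lt_card.1 hV
  obtain ⟨a1, b1, d1⟩ := hmem c hc
  obtain ⟨a2, b2, d2⟩ := hmem c' hc'
  obtain ⟨a3, b3, d3⟩ := hmem c'' hc''
  by_cases hs : c + c' + c * c' = 0
  · refine ⟨c, c'', a1, a3, b1, b3, d1, d3, h2, fun hs' => h3 ?_⟩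
    refine mul_left_cancel₀ b1 ?_
    linear_combination hs - hs'
  · exact ⟨c, c', a1, a2, b1, b2, d1, d2, h1, hs⟩

omit S [Fintype ι] [DecidableEq ι] in
theorem goodPair_five [Finite F] (hF : Nat.card F = 5) (P : F) (h0 : P ≠ 0) (h1 : P ≠ 1) (h3 : P ≠ 3) :
    GoodPair P := by
  haveI := Fintype.ofFinite F
  have key : ∀ x : ZMod 5, x ≠ 0 → x ≠ 1 → x ≠ 3 → ∃ c c' : ZMod 5, c ≠ 0 ∧ c' ≠ 0 ∧ 1 + c ≠ 0 ∧ 1 + c' ≠ 0 ∧
      1 + c * x ≠ 0 ∧ 1 + c' * x ≠ 0 ∧ c ≠ c' ∧ c + c' + c * c' ≠ 0 := by decide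
  haveI : Fact (Nat.Prime 5) := ⟨by norm_num⟩
  let e := ZMod.ringEquivOfPrime F (p := 5) (by norm_num) (by rw [← Nat.card_eq_fintype_card, hF])
  obtain ⟨x, rfl⟩ := e.surjective P
  obtain ⟨c, c', a1, a2, a3, a4, a5, a6, a7, a8⟩ := key x (fun h => h0 (by simp [h]))
    (fun h => h1 (by simp [h])) (fun h => h3 (by simp [h, map_ofNat]))
  have hi := e.injective
  refine ⟨e c, e c', fun h => a1 (hi (by simpa using h)), fun h => a2 (hi (by simpa using h)),
    fun h => a3 (hi (by simpa using h)), fun h => a4 (hi (by simpa using h)),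
    fun h => a5 (hi (by simpa using h)), fun h => a6 (hi (by simpa using h)), fun h => a7 (hi h),
    fun h => a8 (hi (by simpa using h))⟩

/-- A derived homology with a prescribed product. -/
theorem exists_derived [Finite F] (hF : 3 ≤ Nat.card F) {a α : ι → F} (h : HasHom Γ a α) {i : ι}
    (hik : i ≠ k) {c : F} (hc : 1 + c ≠ 0) :
    ∃ X Y : ι → F, HasHom Γ X Y ∧ X i = 1 + c * (α i * a i) ∧ (∀ y, y ≠ i → X y = c * α i * a y) ∧
      ∀ y, y ≠ i → Y y * X y = c * (-c / (1 + c)) * (α i * a i) * (α y * a y) := by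
  refine ⟨_, _, (hasHom_single S hik).conj (h.2 c hc), ?_, fun y hy => ?_, fun y hy => ?_⟩
  · rw [hom_mulVec h.1 hc]; simp; ring
  · rw [hom_mulVec h.1 hc]; simp [hy]
  · rw [hom_mulVec h.1 hc, hom_vecMul_inv h.1 hc]; simp [hy]; ring

/-- A product equal to one can be moved to a good one. -/
theorem elem_of_one [Finite F] (hF : 5 ≤ Nat.card F) {a α : ι → F} (h : HasHom Γ a α) {i l : ι}
    (hli : l ≠ i) (hal : a l ≠ 0) (hPi : α i * a i = 1) : Elem k Γ := by
  have hF3 : 3 ≤ Nat.card F := by omega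
  by_contra hel
  have hαl : α l ≠ 0 := fun e => hal ((supp_eq S hF3 hel h l).2 e)
  have hPl : α l * a l ≠ 0 := mul_ne_zero hαl hal
  have hik : i ≠ k := fun e => by
    rw [e, (coord S h hF3).1, mul_zero] at hPi
    exact zero_ne_one hPi
  suffices H : ∃ c : F, c ≠ 0 ∧ 1 + c ≠ 0 ∧ c * (-c / (1 + c)) * (α l * a l) ≠ 1 ∧
      GoodPair (c * (-c / (1 + c)) * (α l * a l)) by
    obtain ⟨c, hc0, hc, h1, hgood⟩ := H
    obtain ⟨X, Y, hXY, hXi, hX, hP⟩ := exists_derived S hF3 h hik hc
    have hP' : Y l * X l = c * (-c / (1 + c)) * (α l * a l) := by rw [hP l hli, hPi, mul_one]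
    refine hel (elem_of_product S hF3 hXY (j := l) (l := i) hli.symm ?_ ?_ (hP' ▸ h1) (hP' ▸ hgood))
    · rw [hXi, hPi, mul_one]; exact hc
    · rw [hP']; exact mul_ne_zero (mul_ne_zero hc0 (div_ne_zero (neg_ne_zero.2 hc0) hc)) hPl
  classical
  haveI := Fintype.ofFinite F
  rcases eq_or_lt_of_le hF with h5 | h6
  · have key : ∀ x : ZMod 5, (x = 1 ∨ x = 3) → ∃ c : ZMod 5, c ≠ 0 ∧ 1 + c ≠ 0 ∧ ∃ d : ZMod 5,
        d * (1 + c) = -c ∧ c * d * x ≠ 0 ∧ c * d * x ≠ 1 ∧ c * d * x ≠ 3 := by decide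
    haveI : Fact (Nat.Prime 5) := ⟨by norm_num⟩
    let e := ZMod.ringEquivOfPrime F (p := 5) (by norm_num) (by rw [← Nat.card_eq_fintype_card, h5])
    obtain ⟨x, hx⟩ := e.surjective (α l * a l)
    by_cases hgood : α l * a l ≠ 1 ∧ α l * a l ≠ 3
    · exact absurd (elem_of_product S hF3 h (j := l) (l := i) hli.symm
        (right_ne_zero_of_mul_eq_one hPi) hPl hgood.1 (goodPair_five h5.symm _ hPl hgood.1 hgood.2)) hel
    obtain ⟨c, a1, a2, d, hd, a3, a4, a5⟩ := key x (by
      rw [not_and_or, not_not, not_not, ← hx] at hgood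
      rcases hgood with hg | hg
      · exact Or.inl (e.injective (hg.trans (map_one e).symm))
      · exact Or.inr (e.injective (hg.trans (map_ofNat e 3).symm)))
    have hec : 1 + e c ≠ 0 := fun h => a2 (e.injective (by simpa using h))
    have hd' : -e c / (1 + e c) = e d := by
      rw [div_eq_iff hec, ← map_one e, ← map_add, ← map_mul, hd, map_neg]
    refine ⟨e c, fun h => a1 (e.injective (by simpa using h)), hec, ?_, ?_⟩ <;>
      rw [hd', ← hx, ← map_mul, ← map_mul]
    · exact fun h => a4 (e.injective (h.trans (map_one e).symm))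
    · exact goodPair_five h5.symm _ (fun h => a3 (e.injective (h.trans (map_zero e).symm)))
        (fun h => a4 (e.injective (h.trans (map_one e).symm)))
        (fun h => a5 (e.injective (h.trans (map_ofNat e 3).symm)))
  · set V : Finset F := Finset.univ \ {0, -1}
    have hV : 2 < V.card := by
      have h1 := Finset.le_card_sdiff ({0, -1} : Finset F) Finset.univ
      have h2 := Finset.card_le_two (a := (0 : F)) (b := -1)
      rw [Finset.card_univ, ← Nat.card_eq_fintype_card] at h1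
      have : Finset.univ \ {0, -1} = V := rfl
      rw [this] at h1
      omega
    have hmem : ∀ c ∈ V, c ≠ 0 ∧ 1 + c ≠ 0 := fun c hc => by
      simp only [V, Finset.mem_sdiff, Finset.mem_univ, Finset.mem_insert, Finset.mem_singleton, true_and,
        not_or] at hc
      exact ⟨hc.1, fun e => hc.2 (eq_neg_of_add_eq_zero_right e)⟩
    obtain ⟨c₁, m₁, c₂, m₂, c₃, m₃, n₁, n₂, n₃⟩ := Finset.two_lt_card.1 hV
    set P := α l * a l
    obtain ⟨c, hc, hroot⟩ : ∃ c ∈ V, c * c * P + c + 1 ≠ 0 := by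
      by_contra hno
      push Not at hno
      have r1 := hno c₁ m₁
      have r2 := hno c₂ m₂
      have r3 := hno c₃ m₃
      have e12 : (c₁ + c₂) * P + 1 = 0 := mul_left_cancel₀ (sub_ne_zero.2 n₁) (by linear_combination r1 - r2)
      have e13 : (c₁ + c₃) * P + 1 = 0 := mul_left_cancel₀ (sub_ne_zero.2 n₂) (by linear_combination r1 - r3)
      exact mul_ne_zero (sub_ne_zero.2 n₃) hPl (by linear_combination e12 - e13)
    obtain ⟨hc0, hc1⟩ := hmem c hc
    refine ⟨c, hc0, hc1, fun e => hroot ?_, goodPair_of_six h6 _⟩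
    field_simp at e
    linear_combination -e

/-- Monomial or an elementary transvection. -/
theorem mon_or_elem [Finite F] (hF : 5 ≤ Nat.card F) (hcard : 4 ≤ Fintype.card ι) {g : GL ι F}
    (hg : g ∈ Γ) : BlockMon id g ∨ Elem k Γ := by
  have hF3 : 3 ≤ Nat.card F := by omega
  by_contra hne
  push Not at hne
  obtain ⟨hmon, hel⟩ := hne
  obtain ⟨j, x, y, hxy, hx, hy⟩ := exists_two_of_not_mon g hmon
  have hjk : j ≠ k := fun e => by
    have h1 := S.col g hg
    rw [← e, mulVec_single_one] at h1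
    have hx' := congrFun h1 x
    have hy' := congrFun h1 y
    simp only [Matrix.col_apply] at hx' hy'
    rw [hx', Pi.single_apply] at hx
    rw [hy', Pi.single_apply] at hy
    split_ifs at hx hy with h1 h2 <;> simp_all
  have h := (hasHom_single S hjk).conj hg
  rw [mulVec_single_one] at h
  set a := (g : Matrix ι ι F).col j
  set α := Pi.single j (1 : F) ᵥ* ((g⁻¹ : GL ι F) : Matrix ι ι F)
  have hax : a x ≠ 0 := hx
  have hay : a y ≠ 0 := hy
  have hnz : ∀ z, a z ≠ 0 → α z * a z ≠ 0 := fun z hz =>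
    mul_ne_zero (fun e => hz ((supp_eq S hF3 hel h z).2 e)) hz
  by_cases h1x : α x * a x = 1
  · exact hel (elem_of_one S hF h hxy.symm hay h1x)
  by_cases hgx : GoodPair (α x * a x)
  · exact hel (elem_of_product S hF3 h hxy.symm hay (hnz x hax) h1x hgx)
  have h5 : Nat.card F = 5 := by
    by_contra h
    exact hgx (goodPair_of_six (by omega) _)
  have h3x : α x * a x = 3 := by
    by_contra h
    exact hgx (goodPair_five h5 _ (hnz x hax) h1x h)
  by_cases h1y : α y * a y = 1
  · exact hel (elem_of_one S hF h hxy hax h1y)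
  have h3y : α y * a y = 3 := by
    by_contra h'
    exact hel (elem_of_product S hF3 h hxy hax (hnz y hay) h1y (goodPair_five h5 _ (hnz y hay) h1y h'))
  haveI := Fintype.ofFinite F
  have h50 : (5 : F) = 0 := by
    haveI : Fact (Nat.Prime 5) := ⟨by norm_num⟩
    let e := ZMod.ringEquivOfPrime F (p := 5) (by norm_num) (by rw [← Nat.card_eq_fintype_card, h5])
    rw [← map_ofNat e 5, show (5 : ZMod 5) = 0 from ZMod.natCast_self 5, map_zero]
  have h20 : (2 : F) ≠ 0 := fun e => one_ne_zero (show (1 : F) = 0 by linear_combination h50 - 2 * e)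
  have hxk : x ≠ k := fun e => hax (e ▸ (coord S h hF3).1)
  have hyk : y ≠ k := fun e => hay (e ▸ (coord S h hF3).1)
  by_cases hthird : ∃ z, z ≠ x ∧ z ≠ y ∧ a z ≠ 0
  · obtain ⟨z, hzx, hzy, haz⟩ := hthird
    have h4 : (1 : F) + 3 ≠ 0 := fun e => one_ne_zero (show (1 : F) = 0 by linear_combination h50 - e)
    obtain ⟨X, Y, hXY, -, hX, hP⟩ := exists_derived S hF3 h hxk h4
    refine hel (elem_of_one S hF hXY hzy ?_ ?_)
    · rw [hX z hzx]
      exact mul_ne_zero (mul_ne_zero (fun e => h1x (by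
        exact absurd (show (2 : F) = 0 by linear_combination h50 - e) h20)) (left_ne_zero_of_mul (hnz x hax))) haz
    · rw [hP y hxy.symm, h3x, h3y]
      field_simp
      linear_combination (-17 : F) * h50
  push Not at hthird
  obtain ⟨w, hwx, hwy, hwk⟩ : ∃ w, w ≠ x ∧ w ≠ y ∧ w ≠ k := by
    by_contra hno
    push Not at hno
    have hle : Fintype.card ι ≤ ({x, y, k} : Finset ι).card := Finset.card_le_card fun z _ => by
      simp only [Finset.mem_insert, Finset.mem_singleton]
      by_contra hz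
      push Not at hz
      exact hz.2.2 (hno z hz.1 hz.2.1)
    have := Finset.card_le_three (a := x) (b := y) (c := k)
    omega
  have hd : ∀ z : ι, (1 : ι → F) z ≠ 0 := fun z => one_ne_zero
  have hπ := S.mem 1 (Equiv.swap x w) hd (Equiv.swap_apply_of_ne_of_ne hxk.symm hwk.symm) rfl
  have hb := h.conj hπ
  set b := (mono (1 : ι → F) (Equiv.swap x w) : Matrix ι ι F) *ᵥ a
  set γ := α ᵥ* (((mono (1 : ι → F) (Equiv.swap x w))⁻¹ : GL ι F) : Matrix ι ι F)
  have hbz : ∀ z, b z = a (Equiv.swap x w z) := fun z => by simp [b, mono_mulVec hd]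
  have hγz : ∀ z, γ z = α (Equiv.swap x w z) := by
    intro z
    have hz : (mono (1 : ι → F) (Equiv.swap x w) : Matrix ι ι F) *ᵥ Pi.single (Equiv.swap x w z) 1 =
        Pi.single z 1 := funext fun l => by
      rw [mono_mulVec hd, Pi.one_apply, one_mul, Pi.single_apply, Pi.single_apply]
      simp
    rw [← mul_one (γ z), ← dotProduct_single, ← hz, vecMul_dot, dotProduct_single, mul_one]
  have hsy : Equiv.swap x w y = y := Equiv.swap_apply_of_ne_of_ne hxy.symm hwy.symm
  have h2 : (1 : F) + 1 ≠ 0 := by rwa [one_add_one_eq_two]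
  have hnew := hb.conj (h.2 1 h2)
  have hαb : α ⬝ᵥ b = 3 := by
    rw [dotProduct, Finset.sum_eq_single y (fun z _ hz => ?_) (by simp), hbz, hsy, h3y]
    rw [hbz]
    by_cases hzw : z = w
    · subst hzw
      rw [(supp_eq S hF3 hel h z).1 (hthird z hwx hwy), zero_mul]
    by_cases hzx : z = x
    · subst hzx
      rw [Equiv.swap_apply_left, hthird w hwx hwy, mul_zero]
    · rw [Equiv.swap_apply_of_ne_of_ne hzx hzw, hthird z hzx hz, mul_zero]
  have hγa : γ ⬝ᵥ a = 3 := by
    rw [dotProduct, Finset.sum_eq_single y (fun z _ hz => ?_) (by simp), hγz, hsy, h3y]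
    rw [hγz]
    by_cases hzx : z = x
    · subst hzx
      rw [Equiv.swap_apply_left, (supp_eq S hF3 hel h w).1 (hthird w hwx hwy), zero_mul]
    · rw [hthird z hzx hz, mul_zero]
  have hXy : ((hom a α 1 : GL ι F) : Matrix ι ι F) *ᵥ b = b + (3 : F) • a := by
    rw [hom_mulVec h.1 h2, hαb, one_mul]
  rw [hXy, hom_vecMul_inv h.1 h2, hγa] at hnew
  have hP : (γ + (-1 / (1 + 1) * 3 : F) • α) y * (b + (3 : F) • a) y = 4 := by
    simp only [Pi.add_apply, Pi.smul_apply, smul_eq_mul, hbz, hγz, hsy]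
    rw [show (-1 / (1 + 1) * 3 : F) = 1 by field_simp; linear_combination -h50]
    linear_combination (8 : F) * h3y + 4 * h50
  have hXw : (b + (3 : F) • a) w ≠ 0 := by
    simp only [Pi.add_apply, Pi.smul_apply, smul_eq_mul, hbz, Equiv.swap_apply_right, hthird w hwx hwy,
      mul_zero, add_zero]
    exact hax
  refine hel (elem_of_product S hF3 hnew (j := y) (l := w) hwy hXw ?_ ?_ ?_) <;> rw [hP]
  · exact fun e => one_ne_zero (show (1 : F) = 0 by linear_combination h50 - e)
  · exact fun e => h20 (show (2 : F) = 0 by linear_combination h50 - e)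
  · exact goodPair_five h5 _ (fun e => one_ne_zero (show (1 : F) = 0 by linear_combination h50 - e))
      (fun e => h20 (show (2 : F) = 0 by linear_combination h50 - e))
      (fun e => one_ne_zero (show (1 : F) = 0 by linear_combination e))

end Cfsg.Agent.Lib.DecompMax.Homology
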