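import Cfsg.Agent.Lib.DecompMax.Final
import Cfsg.Agent.Lib.DecompMax.Frame

/-!
Overgroups of decomposition stabilisers in the special linear group.
-/

set_option autoImplicit false

namespace Cfsg.Agent.Lib.DecompMax.Main

open Matrix Cfsg.Agent.Lib.Subspaces.Transvection Cfsg.Agent.Lib.Subspaces.Decomposition
  Cfsg.Agent.Lib.DecompMax.Blocks

variable {ι : Type} [Fintype ι] [DecidableEq ι] {F : Type*} [Field F] [Fintype F]

theorem sl_le_of_monomial {M : Subgroup (GL ι F)} (S : Blocks.Setting id M)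
    (hdet : ∀ g ∈ M, (g : Matrix ι ι F).det = 1) (hcard : 6 ≤ Fintype.card ι)
    (hqn : 13 ≤ Fintype.card ι ∨ Fintype.card F ≠ Fintype.card ι) (hF : 5 ≤ Fintype.card F) {g : GL ι F} (hg : g ∈ M) (hmon : ¬ BlockMon id g) :
    Cfsg.Geo.specialLinear ι F ≤ M := by
  classical
  by_cases hoff : Off id M
  · exact S.sl_le_of_off (by omega) hoff
  · exact absurd (Final.blockMon_of_mem ⟨S, hdet, hcard, by rwa [Nat.card_eq_fintype_card], hoff⟩ hqn hg) hmon

/-- For six dimensions on, with the exception of as many points as coordinates below thirteen. -/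
theorem maximal_of_six {t m : ℕ} (D : Fin t → Submodule F (ι → F)) (hD : Cfsg.Geo.IsMDecomposition m D)
    (hcard : 6 ≤ Fintype.card ι) (hqn : 13 ≤ Fintype.card ι ∨ Fintype.card F ≠ Fintype.card ι) (h1 : ¬ (m = 1 ∧ Fintype.card F ≤ 4)) (h2 : ¬ (m = 2 ∧ Fintype.card F = 2)) :
    Cfsg.Geo.IsMaximalIn (Cfsg.Geo.specialLinear ι F)
      (Cfsg.Geo.decompositionStabilizer D ⊓ Cfsg.Geo.specialLinear ι F) := by
  classical
  obtain ⟨e, P, hP⟩ := Frame.exists_frame hD
  set β : ι → Fin t := fun a => (e a).1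
  let c := (MulAut.conj P).toMonoidHom
  have hc : ∀ g, c g = P * g * P⁻¹ := fun g => rfl
  have hdet : ∀ g : GL ι F, c g ∈ Cfsg.Geo.specialLinear ι F ↔ (g : Matrix ι ι F).det = 1 := fun g => by
    rw [mem_specialLinear_iff, hc, Units.val_mul, Units.val_mul, det_mul_right_comm, Units.mul_inv, one_mul]
  have hm := hD.pos
  have ht := hD.two_le
  refine ⟨lt_of_le_not_ge inf_le_right fun hle => ?_, fun M hHM hMK => ?_⟩
  · let i0 : Fin t := ⟨0, by omega⟩
    let i1 : Fin t := ⟨1, by omega⟩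
    let a := e.symm (i0, ⟨0, hm⟩)
    let b := e.symm (i1, ⟨0, hm⟩)
    have hab : (e a).1 ≠ (e b).1 := by simp [a, b, i0, i1]
    exact Frame.conj_tv_not_mem hP hD hab (hle ((hdet (tv (Pi.single a (1 : F)) (Pi.single b 1))).2 (det_tv _ _))).1
  by_cases hM : M ≤ Cfsg.Geo.decompositionStabilizer D
  · exact Or.inl (le_antisymm (le_inf hM hMK) hHM)
  refine Or.inr (le_antisymm hMK ?_)
  obtain ⟨x, hxM, hx⟩ := SetLike.not_le_iff_exists.1 hM
  obtain ⟨g, rfl⟩ : ∃ g, c g = x := (MulAut.conj P).surjective x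
  have hnm : ¬ BlockMon β g := fun h => hx (Frame.conj_mem hP hD h)
  have hS : Blocks.Setting β (M.comap c) :=
    ⟨fun y hy hy1 => hHM ⟨Frame.conj_mem hP hD hy, (hdet y).2 hy1⟩, m, e, fun _ => rfl⟩
  have hd : ∀ y ∈ M.comap c, (y : Matrix ι ι F).det = 1 := fun y hy => (hdet y).1 (hMK hy)
  suffices H : Cfsg.Geo.specialLinear ι F ≤ M.comap c by
    intro y hy
    obtain ⟨z, rfl⟩ : ∃ z, c z = y := (MulAut.conj P).surjective y
    exact H ((mem_specialLinear_iff z).2 ((hdet z).1 hy))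
  by_cases hm1 : m = 1
  · subst hm1
    have hbij : Function.Bijective β :=
      ⟨fun a b h => e.injective (Prod.ext h (Subsingleton.elim _ _)), fun k => ⟨e.symm (k, 0), by simp [β]⟩⟩
    have hmon : ∀ y : GL ι F, BlockMon id y → BlockMon β y := by
      rintro y ⟨σ, hσ⟩
      refine ⟨(Equiv.ofBijective β hbij).permCongr σ, fun a b hab => ?_⟩
      have h : a = σ b := hσ a b hab
      rw [Equiv.permCongr_apply,
        show (Equiv.ofBijective β hbij).symm (β b) = b from (Equiv.ofBijective β hbij).symm_apply_apply b, h]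
      rfl
    let e' : ι ≃ ι × Fin 1 := (Equiv.prodUnique ι (Fin 1)).symm
    refine sl_le_of_monomial ⟨fun y hy hy1 => hS.mem y (hmon y hy) hy1, 1, e', fun a => rfl⟩ hd hcard hqn ?_
      (show g ∈ M.comap c from hxM) (fun h => hnm (hmon g h))
    by_contra hF
    exact h1 ⟨rfl, by omega⟩
  have hm2 : 2 ≤ m := by omega
  have hpart : ∀ x : ι, ∃ y, y ≠ x ∧ β y = β x := fun x => by
    obtain ⟨k, hk⟩ : ∃ k : Fin m, k ≠ (e x).2 := by
      by_cases h : (e x).2 = ⟨0, by omega⟩
      · exact ⟨⟨1, by omega⟩, by rw [h]; simp [Fin.ext_iff]⟩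
      · exact ⟨⟨0, by omega⟩, Ne.symm h⟩
    exact ⟨e.symm ((e x).1, k), fun h => hk (by rw [← h]; simp), by simp [β]⟩
  refine hS.sl_le_of_off (by omega) ?_
  obtain ⟨a, χ, l, q, hχa, htv, hl, hq, haq⟩ := Large.exists_tv hS
    (fun k => ⟨e.symm (k, ⟨0, hm⟩), by simp [β]⟩) (show g ∈ M.comap c from hxM) hnm hpart
  refine Large.off_of_tv hS hχa htv hl hq haq hpart (by omega) fun u v huv hblock => ?_
  by_contra hno
  push Not at hno
  have hle : (Finset.univ : Finset F) ⊆ {0, 1} := fun x _ => by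
    by_cases h0 : x = 0
    · simp [h0]
    · simp [hno x h0]
  have hF2 := (Finset.card_le_card hle).trans Finset.card_le_two
  rw [Finset.card_univ] at hF2
  have hF1 : 1 < Fintype.card F := Fintype.one_lt_card
  have hm3 : 3 ≤ m := by
    by_contra h
    exact h2 ⟨by omega, by omega⟩
  have hmem : ∀ k : Fin m, e.symm ((e v).1, k) = u ∨ e.symm ((e v).1, k) = v := fun k =>
    hblock _ (by simp [β])
  have hinj : ∀ k k' : Fin m, e.symm ((e v).1, k) = e.symm ((e v).1, k') → k = k' := fun k k' h => by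
    simpa using h
  rcases hmem ⟨0, by omega⟩ with h0 | h0 <;> rcases hmem ⟨1, by omega⟩ with h1' | h1' <;>
    rcases hmem ⟨2, by omega⟩ with h2' | h2'
  all_goals first
    | exact absurd (hinj _ _ (h0.trans h1'.symm)) (by simp [Fin.ext_iff])
    | exact absurd (hinj _ _ (h0.trans h2'.symm)) (by simp [Fin.ext_iff])
    | exact absurd (hinj _ _ (h1'.trans h2'.symm)) (by simp [Fin.ext_iff])

theorem maximal {t m : ℕ} (D : Fin t → Submodule F (ι → F)) (hD : Cfsg.Geo.IsMDecomposition m D)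
    (hcard : 13 ≤ Fintype.card ι) (h1 : ¬ (m = 1 ∧ Fintype.card F ≤ 4)) (h2 : ¬ (m = 2 ∧ Fintype.card F = 2)) :
    Cfsg.Geo.IsMaximalIn (Cfsg.Geo.specialLinear ι F)
      (Cfsg.Geo.decompositionStabilizer D ⊓ Cfsg.Geo.specialLinear ι F) :=
  maximal_of_six D hD (by omega) (Or.inl hcard) h1 h2

end Cfsg.Agent.Lib.DecompMax.Main
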