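import Cfsg.Agent.Lib.DecompMax.Homology

/-!
Overgroups of the monomial group: the stabiliser of a coordinate line is monomial.
-/

set_option autoImplicit false

namespace Cfsg.Agent.Lib.DecompMax.Stab

open Matrix Cfsg.Agent.Lib.Subspaces.Transvection Cfsg.Agent.Lib.DecompMax.Blocks

variable {ι : Type} [Fintype ι] [DecidableEq ι] {F : Type*} [Field F]

/-- `z` and `z₀` with equal rows off `k`. -/
theorem factor {k : ι} {z z₀ : GL ι F} {δ : F} (hδ : δ ≠ 0)
    (hcol : (z₀ : Matrix ι ι F) *ᵥ Pi.single k 1 = δ • Pi.single k 1)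
    (hdet : (z : Matrix ι ι F).det = (z₀ : Matrix ι ι F).det)
    (hrows : ∀ r, r ≠ k → ∀ l, (z : Matrix ι ι F) r l = (z₀ : Matrix ι ι F) r l) :
    ∃ φ : ι → F, φ k = 0 ∧ z = z₀ * tv (Pi.single k 1) φ := by
  set φ : ι → F := fun l => ((z : Matrix ι ι F) k l - (z₀ : Matrix ι ι F) k l) / δ
  have heq : (z : Matrix ι ι F) = (z₀ : Matrix ι ι F) * (1 + vecMulVec (Pi.single k 1) φ) := by
    rw [Matrix.mul_add, Matrix.mul_one, mul_vecMulVec, hcol]
    ext r l
    rw [Matrix.add_apply, vecMulVec_apply, Pi.smul_apply, smul_eq_mul]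
    by_cases hr : r = k
    · subst hr
      simp [φ, mul_div_cancel₀ _ hδ]
    · simp [hr, hrows r hr l]
  have hk : φ k = 0 := by
    have h := congrArg Matrix.det heq
    rw [det_mul, hdet, vecMulVec_eq Unit, det_one_add_replicateCol_mul_replicateRow, dotProduct_single,
      mul_one] at h
    have h0 : (z₀ : Matrix ι ι F).det ≠ 0 := Matrix.GeneralLinearGroup.det_ne_zero z₀
    refine mul_left_cancel₀ h0 ?_
    linear_combination -h
  refine ⟨φ, hk, Units.ext ?_⟩
  rw [Units.val_mul, coe_tv (by simpa using hk), heq]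

variable {M : Subgroup (GL ι F)} (S : Blocks.Setting id M)
include S

omit S in
theorem exists_not_mem {s : Finset ι} (h : s.card < Fintype.card ι) : ∃ w, w ∉ s := by
  by_contra hno
  push Not at hno
  exact absurd (Finset.card_le_card (t := s) (fun x (_ : x ∈ Finset.univ) => hno x))
    (by rw [Finset.card_univ]; omega)

/-- The scaling at two coordinates. -/
theorem scale_mem {p w : ι} (hpw : p ≠ w) {l : F} (hl : l ≠ 0) :
    ∃ d : ι → F, (∀ x, d x ≠ 0) ∧ mono d 1 ∈ M ∧ d p = l ∧ d w = l⁻¹ ∧ ∀ x, x ≠ p → x ≠ w → d x = 1 := by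
  refine ⟨Function.update (Function.update 1 p l) w l⁻¹, fun x => ?_, ?_, by simp [hpw], by simp,
    fun x h1 h2 => by simp [h1, h2]⟩
  · by_cases h1 : x = w
    · subst h1; simp [hl]
    by_cases h2 : x = p
    · subst h2; simp [h1, hl]
    simp [h1, h2]
  · refine S.diag_mem (fun x => ?_) ?_
    · by_cases h1 : x = w
      · subst h1; simp [hl]
      by_cases h2 : x = p
      · subst h2; simp [h1, hl]
      simp [h1, h2]
    · rw [Finset.prod_update_of_mem (Finset.mem_univ w), Finset.prod_update_of_mem (by simpa using hpw)]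
      simp [hl]

theorem tv_scale_mem {k : ι} {ψ : ι → F} (hψ : ψ k = 0) (hM : tv (Pi.single k 1) ψ ∈ M) {d : ι → F}
    (hd : ∀ x, d x ≠ 0) (hdM : mono d 1 ∈ M) :
    tv (Pi.single k 1) (fun x => d k * ψ x / d x - ψ x) ∈ M := by
  have h := M.mul_mem (M.mul_mem (M.mul_mem hdM hM) (M.inv_mem hdM)) (M.inv_mem hM)
  rw [mono_conj_tv hd 1 (by simpa using hψ)] at h
  have e : (fun x => d x * (Pi.single k (1 : F) : ι → F) ((1 : Equiv.Perm ι) x)) = d k • Pi.single k 1 :=
    funext fun x => by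
      by_cases hx : x = k
      · subst hx; simp
      · simp [hx]
  rw [e, tv_smul (by simp [hψ]), tv_inv (by simpa using hψ),
    tv_mul_center (by simp [hψ]) (by simp [hψ])] at h
  convert h using 2
  funext x
  simp
  ring

/-- A transvection with coordinate centre gives an elementary one. -/
theorem off_of_center (hl : ∃ l : F, l ≠ 0 ∧ l ≠ 1) (hcard : 4 ≤ Fintype.card ι) {k : ι} {ψ : ι → F}
    (hψ : ψ k = 0) (hne : ψ ≠ 0) (hM : tv (Pi.single k 1) ψ ∈ M) : Off id M := by
  obtain ⟨p, hp⟩ := Function.ne_iff.1 hne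
  simp only [Pi.zero_apply] at hp
  have hpk : p ≠ k := fun e => hp (e ▸ hψ)
  obtain ⟨l, hl0, hl1⟩ := hl
  obtain ⟨w, hw⟩ := exists_not_mem (s := {k, p}) (by
    have := Finset.card_le_two (a := k) (b := p); omega)
  simp only [Finset.mem_insert, Finset.mem_singleton, not_or] at hw
  obtain ⟨w', hw'⟩ := exists_not_mem (s := {k, p, w}) (by
    have := Finset.card_le_three (a := k) (b := p) (c := w); omega)
  simp only [Finset.mem_insert, Finset.mem_singleton, not_or] at hw'
  obtain ⟨d, hd, hdM, hdp, hdw, hd1⟩ := scale_mem S (Ne.symm hw.2) hl0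
  have h1 := tv_scale_mem S hψ hM hd hdM
  set ψ₁ := fun x => d k * ψ x / d x - ψ x with hψ₁
  have hk1 : ψ₁ k = 0 := by simp [ψ₁, hψ]
  obtain ⟨d', hd', hd'M, hd'p, hd'w, hd'1⟩ := scale_mem S (Ne.symm hw'.2.1) hl0
  have h2 := tv_scale_mem S hk1 h1 hd' hd'M
  refine ⟨k, p, (l⁻¹ - 1) * ((l⁻¹ - 1) * ψ p), hpk.symm, mul_ne_zero
    (sub_ne_zero.2 fun e => hl1 (inv_eq_one.1 e))
    (mul_ne_zero (sub_ne_zero.2 fun e => hl1 (inv_eq_one.1 e)) hp), ?_⟩
  rw [show (Pi.single k ((l⁻¹ - 1) * ((l⁻¹ - 1) * ψ p)) : ι → F) =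
      ((l⁻¹ - 1) * ((l⁻¹ - 1) * ψ p)) • Pi.single k 1 by rw [← Pi.single_smul, smul_eq_mul, mul_one],
    tv_smul (by simp [hpk.symm]), ← Pi.single_smul, smul_eq_mul, mul_one]
  convert h2 using 2
  have hdk : d k = 1 := hd1 k hpk.symm (Ne.symm hw.1)
  have hd'k : d' k = 1 := hd'1 k hpk.symm (Ne.symm hw'.1)
  funext x
  by_cases hxp : x = p
  · subst hxp; simp [ψ₁, hdk, hd'k, hdp, hd'p]; ring
  by_cases hxw : x = w
  · subst hxw; simp [hd'k, hd'1 x hxp (Ne.symm hw'.2.2), hxp]
  simp [ψ₁, hdk, hd'k, hd1 x hxp hxw, hxp]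

/-- The group induced on the coordinates off `k` by the stabiliser of the line of `k`. -/
def Ind [Finite F] (M : Subgroup (GL ι F)) (k : ι) : Subgroup (GL ι F) where
  carrier := {A | (A : Matrix ι ι F) *ᵥ Pi.single k 1 = Pi.single k 1 ∧
    Pi.single k 1 ᵥ* (A : Matrix ι ι F) = Pi.single k 1 ∧
    ∃ z ∈ M, ∀ r, r ≠ k → ∀ l, (z : Matrix ι ι F) r l = (A : Matrix ι ι F) r l}
  one_mem' := ⟨by rw [Units.val_one, one_mulVec], by rw [Units.val_one, vecMul_one], 1, M.one_mem, fun r _ l => by simp⟩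
  mul_mem' := by
    rintro A A' ⟨hA, hA', z, hz, hzA⟩ ⟨hB, hB', z', hz', hzB⟩
    refine ⟨by rw [gl_mul_mulVec, hB, hA], by rw [Units.val_mul, ← vecMul_vecMul, hA', hB'], z * z',
      M.mul_mem hz hz', fun r hr l => ?_⟩
    rw [Units.val_mul, Units.val_mul, Matrix.mul_apply, Matrix.mul_apply]
    refine Finset.sum_congr rfl fun x _ => ?_
    rw [hzA r hr]
    by_cases hx : x = k
    · subst hx
      have := congrFun hA r
      rw [mulVec_single_one, Matrix.col_apply] at this
      rw [this, Pi.single_eq_of_ne hr, zero_mul, zero_mul]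
    · rw [hzB x hx]
  inv_mem' := by
    intro A hA
    have hpow : ∀ m : ℕ, (A ^ m : GL ι F) ∈ {A : GL ι F | (A : Matrix ι ι F) *ᵥ Pi.single k 1 = Pi.single k 1 ∧
        Pi.single k 1 ᵥ* (A : Matrix ι ι F) = Pi.single k 1 ∧
        ∃ z ∈ M, ∀ r, r ≠ k → ∀ l, (z : Matrix ι ι F) r l = (A : Matrix ι ι F) r l} := by
      intro m
      induction m with
      | zero => exact ⟨by rw [pow_zero, Units.val_one, one_mulVec], by rw [pow_zero, Units.val_one, vecMul_one], 1, M.one_mem, fun r _ l => by simp⟩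
      | succ m ih =>
        obtain ⟨hA1, hA', z, hz, hzA⟩ := ih
        obtain ⟨hB, hB', z', hz', hzB⟩ := hA
        rw [pow_succ]
        refine ⟨by rw [gl_mul_mulVec, hB, hA1], by rw [Units.val_mul, ← vecMul_vecMul, hA', hB'], z * z',
          M.mul_mem hz hz', fun r hr l => ?_⟩
        rw [Units.val_mul, Units.val_mul, Matrix.mul_apply, Matrix.mul_apply]
        refine Finset.sum_congr rfl fun x _ => ?_
        rw [hzA r hr]
        by_cases hx : x = k
        · subst hx
          have := congrFun hA1 r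
          rw [mulVec_single_one, Matrix.col_apply] at this
          rw [this, Pi.single_eq_of_ne hr, zero_mul, zero_mul]
        · rw [hzB x hx]
    have := hpow (orderOf A - 1)
    rwa [← inv_eq_of_mul_eq_one_right (show A * A ^ (orderOf A - 1) = 1 by
      rw [← pow_succ', Nat.sub_add_cancel (orderOf_pos A), pow_orderOf_eq_one])] at this

theorem exists_lift (k : ι) {d : ι → F} (hd : ∀ l, d l ≠ 0) (σ : Equiv.Perm ι) :
    ∃ d' : ι → F, (∀ l, d' l ≠ 0) ∧ mono d' σ ∈ M ∧ ∀ r, r ≠ k → d' r = d r := by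
  set ε : F := ((Equiv.Perm.sign σ : ℤ) : F)
  have hε : ε * ε = 1 := by
    rcases Int.units_eq_one_or (Equiv.Perm.sign σ) with h | h <;> simp [ε, h]
  set R := ∏ l ∈ Finset.univ \ {k}, d l
  have hR : R ≠ 0 := Finset.prod_ne_zero_iff.2 fun l _ => hd l
  set d' := Function.update d k (ε / R)
  have hd' : ∀ l, d' l ≠ 0 := fun l => by
    by_cases hl : l = k
    · subst hl; simp [d', hR, left_ne_zero_of_mul_eq_one hε]
    · simp [d', hl, hd l]
  refine ⟨d', hd', S.mem _ (blockMon_mono hd' σ fun l => rfl) ?_, fun r hr => by simp [d', hr]⟩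
  rw [det_mono hd', Finset.prod_update_of_mem (Finset.mem_univ k)]
  show ε / R * R * ε = 1
  rw [div_mul_cancel₀ _ hR, hε]

theorem ind_setting [Finite F] (k : ι) : Homology.Setting k (Ind M k) where
  col := fun _ hg => hg.1
  row := fun _ hg => hg.2.1
  mem := fun d σ hd hσ hdk => by
    have hσ' : ∀ l, σ l = k → l = k := fun l h => σ.injective (h.trans hσ.symm)
    refine ⟨funext fun l => ?_, ?_, ?_⟩
    · rw [mono_mulVec hd]
      by_cases hl : l = k
      · subst hl; simp [hσ, hdk]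
      · simp [hl, show σ l ≠ k from fun h => hl (hσ' l h)]
    · funext l
      rw [single_one_vecMul, Matrix.row_apply, mono_apply hd, hσ, hdk, Pi.single_apply]
      simp [eq_comm]
    · obtain ⟨d', hd', hmem, heq⟩ := exists_lift S k hd σ
      exact ⟨mono d' σ, hmem, fun r hr l => by rw [mono_apply hd', mono_apply hd, heq r hr]⟩

/-- An elementary transvection in the induced group lifts. -/
theorem off_of_elem [Finite F] (hl : ∃ l : F, l ≠ 0 ∧ l ≠ 1) (hcard : 5 ≤ Fintype.card ι)
    (hdet : ∀ g ∈ M, (g : Matrix ι ι F).det = 1) {k : ι} (h : Homology.Elem k (Ind M k)) : Off id M := by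
  obtain ⟨a, b, c, hab, hak, hbk, hc, hE⟩ := h
  obtain ⟨-, -, z, hz, hrows⟩ := hE
  set E := tv (Pi.single a c) (Pi.single b (1 : F))
  have hEk : (E : Matrix ι ι F) *ᵥ Pi.single k 1 = (1 : F) • Pi.single k 1 := by
    rw [tv_mulVec (by simp [hab]), one_smul]; simp [hbk]
  obtain ⟨φ, hφk, hzE⟩ := factor one_ne_zero hEk (by rw [hdet z hz, det_tv]) hrows
  by_contra hoff
  obtain ⟨l, hl0, hl1⟩ := hl
  have key : ∀ d : ι → F, (∀ x, d x ≠ 0) → mono d 1 ∈ M → d a = d b →
      (fun x => d k * φ x / d x - φ x) = 0 := by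
    intro d hd hdM hdab
    by_contra hne
    refine hoff (off_of_center S ⟨l, hl0, hl1⟩ (by omega) (k := k) (ψ := fun x => d k * φ x / d x - φ x)
      (by simp [hφk]) hne ?_)
    have hcomm : mono d 1 * E * (mono d 1)⁻¹ = E := by
      rw [mul_inv_eq_iff_eq_mul]
      refine gl_ext fun x => funext fun y => ?_
      rw [gl_mul_mulVec, gl_mul_mulVec, mono_mulVec hd, tv_mulVec (by simp [hab]), tv_mulVec (by simp [hab])]
      by_cases hy : y = a
      · subst hy; simp [mono_mulVec hd, hdab]; ring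
      · simp [hy, mono_mulVec hd]
    have h := M.mul_mem (M.inv_mem hz) (M.mul_mem (M.mul_mem hdM hz) (M.inv_mem hdM))
    rw [hzE, show (E * tv (Pi.single k (1 : F)) φ)⁻¹ * (mono d 1 * (E * tv (Pi.single k 1) φ) * (mono d 1)⁻¹) =
      (tv (Pi.single k (1 : F)) φ)⁻¹ * (E⁻¹ * (mono d 1 * E * (mono d 1)⁻¹)) *
        (mono d 1 * tv (Pi.single k 1) φ * (mono d 1)⁻¹) by group, hcomm, inv_mul_cancel, mul_one,
      mono_conj_tv hd 1 (by simpa using hφk)] at h
    have e : (fun x => d x * (Pi.single k (1 : F) : ι → F) ((1 : Equiv.Perm ι) x)) = d k • Pi.single k 1 :=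
      funext fun x => by
        by_cases hx : x = k
        · subst hx; simp
        · simp [hx]
    rw [e, tv_smul (by simp [hφk]), tv_inv (by simpa using hφk),
      tv_mul_center (by simp [hφk]) (by simp [hφk])] at h
    convert h using 2
    funext x
    simp
    ring
  have hout : ∀ p, p ≠ k → p ≠ a → p ≠ b → φ p = 0 := by
    intro p hpk hpa hpb
    obtain ⟨w, hw⟩ := exists_not_mem (s := {k, a, b, p}) (by
      have := Finset.card_le_four (a := k) (b := a) (c := b) (d := p); omega)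
    simp only [Finset.mem_insert, Finset.mem_singleton, not_or] at hw
    obtain ⟨d, hd, hdM, hdp, -, hd1⟩ := scale_mem S (Ne.symm hw.2.2.2) hl0
    have := congrFun (key d hd hdM (by
      rw [hd1 a (Ne.symm hpa) (Ne.symm hw.2.1), hd1 b (Ne.symm hpb) (Ne.symm hw.2.2.1)])) p
    rw [hd1 k (Ne.symm hpk) (Ne.symm hw.1), hdp] at this
    simp only [one_mul, Pi.zero_apply, div_eq_mul_inv] at this
    refine (mul_eq_zero.1 (show φ p * (l⁻¹ - 1) = 0 by linear_combination this)).resolve_right
      (sub_ne_zero.2 fun e => hl1 (inv_eq_one.1 e))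
  have hφ : φ = 0 := by
    funext x
    by_cases hxk : x = k
    · rw [hxk, hφk]; rfl
    obtain ⟨w, hw⟩ := exists_not_mem (s := {k, a, b}) (by
      have := Finset.card_le_three (a := k) (b := a) (c := b); omega)
    simp only [Finset.mem_insert, Finset.mem_singleton, not_or] at hw
    by_cases hxa : x = a ∨ x = b
    · obtain ⟨d, hd, hdM, hdk, -, hd1⟩ := scale_mem S (Ne.symm hw.1) hl0
      have hda : d a = 1 := hd1 a hak (Ne.symm hw.2.1)
      have hdb : d b = 1 := hd1 b hbk (Ne.symm hw.2.2)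
      have := congrFun (key d hd hdM (hda.trans hdb.symm)) x
      have hdx : d x = 1 := by rcases hxa with rfl | rfl <;> assumption
      rw [hdk, hdx] at this
      simp only [div_one, Pi.zero_apply] at this
      exact (mul_eq_zero.1 (show (l - 1) * φ x = 0 by linear_combination this)).resolve_left
        (sub_ne_zero.2 hl1)
    · push Not at hxa
      exact hout x hxk hxa.1 hxa.2
  rw [hφ, tv_zero_right, mul_one] at hzE
  rw [hzE] at hz
  exact hoff ⟨a, b, c, hab, hc, hz⟩

/-- The stabiliser of a coordinate line is monomial. -/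
theorem mon_of_fix [Finite F] (hF : 5 ≤ Nat.card F) (hcard : 5 ≤ Fintype.card ι)
    (hdet : ∀ g ∈ M, (g : Matrix ι ι F).det = 1) (hoff : ¬ Off id M) {z : GL ι F} (hz : z ∈ M) {k : ι}
    {μ : F} (hcol : (z : Matrix ι ι F) *ᵥ Pi.single k 1 = μ • Pi.single k 1) : BlockMon id z := by
  classical
  obtain ⟨l, hl⟩ : ∃ l : F, l ≠ 0 ∧ l ≠ 1 := by
    by_contra hall
    push Not at hall
    haveI := Fintype.ofFinite F
    have hle : (Finset.univ : Finset F) ⊆ {0, 1} := fun c _ => by
      by_cases h0 : c = 0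
      · simp [h0]
      · simp [hall c h0]
    have h2 := (Finset.card_le_card hle).trans Finset.card_le_two
    rw [Finset.card_univ, ← Nat.card_eq_fintype_card] at h2
    omega
  have hμ : μ ≠ 0 := fun e => by
    have := congrFun (gl_mulVec_injective z (show (z : Matrix ι ι F) *ᵥ Pi.single k 1 =
      (z : Matrix ι ι F) *ᵥ 0 by rw [hcol, e, zero_smul, mulVec_zero])) k
    simp at this
  let N : Matrix ι ι F := Matrix.updateRow (z : Matrix ι ι F) k (Pi.single k 1)
  have hNx : ∀ x r, (N *ᵥ x) r = if r = k then x k else ((z : Matrix ι ι F) *ᵥ x) r := by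
    intro x r
    by_cases hr : r = k
    · subst hr; simp [N, mulVec]
    · simp [N, mulVec, Matrix.updateRow_ne, hr]
  have hinj : Function.Injective fun x => N *ᵥ x := by
    intro x y hxy
    have h0 : N *ᵥ (x - y) = 0 := by rw [mulVec_sub]; exact sub_eq_zero.2 hxy
    have hk : (x - y) k = 0 := by simpa [hNx] using congrFun h0 k
    have hzv : (z : Matrix ι ι F) *ᵥ (x - y) =
        (z : Matrix ι ι F) *ᵥ ((((z : Matrix ι ι F) *ᵥ (x - y)) k / μ) • Pi.single k 1) := by
      rw [mulVec_smul, hcol, smul_smul, div_mul_cancel₀ _ hμ]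
      funext r
      by_cases hr : r = k
      · subst hr; simp
      · have := congrFun h0 r
        rw [hNx, if_neg hr] at this
        simp [hr, this]
    have h1 := gl_mulVec_injective z hzv
    rw [h1] at hk
    simp only [Pi.smul_apply, Pi.single_eq_same, smul_eq_mul, mul_one] at hk
    rw [hk, zero_smul, sub_eq_zero] at h1
    exact h1
  obtain ⟨A, hA⟩ := Matrix.mulVec_injective_iff_isUnit.1 hinj
  have hAk : (A : Matrix ι ι F) *ᵥ Pi.single k 1 = Pi.single k 1 := by
    rw [hA]
    funext r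
    rw [hNx]
    by_cases hr : r = k
    · subst hr; simp
    · rw [if_neg hr, hcol]; simp [hr]
  have hAmem : A ∈ Ind M k := by
    refine ⟨hAk, ?_, z, hz, fun r hr c => by rw [hA]; simp [N, Matrix.updateRow_ne, hr]⟩
    rw [hA]
    funext c
    simp [N, single_one_vecMul]
  rcases Homology.mon_or_elem (ind_setting S k) hF (by omega) hAmem with hmon | hel
  swap
  · exact absurd (off_of_elem S ⟨l, hl⟩ hcard hdet hel) hoff
  obtain ⟨σ, hσ⟩ := hmon
  set d₀ : ι → F := fun r => (A : Matrix ι ι F) r (σ.symm r)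
  have hd₀ : ∀ r, d₀ r ≠ 0 := fun r h => by
    have h1 : ((A : Matrix ι ι F) * ((A⁻¹ : GL ι F) : Matrix ι ι F)) r r = 1 := by
      rw [← Units.val_mul, mul_inv_cancel]; simp
    rw [Matrix.mul_apply] at h1
    obtain ⟨j, -, hj⟩ := Finset.exists_ne_zero_of_sum_ne_zero (by rw [h1]; exact one_ne_zero)
    have hrj : r = σ j := hσ r j (left_ne_zero_of_mul hj)
    refine left_ne_zero_of_mul hj ?_
    rw [show j = σ.symm r by rw [hrj, σ.symm_apply_apply]]
    exact h
  have hAr : ∀ r c, (A : Matrix ι ι F) r c = if σ.symm r = c then d₀ r else 0 := by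
    intro r c
    by_cases h : σ.symm r = c
    · rw [if_pos h, ← h]
    · rw [if_neg h]
      by_contra hne
      have hrc : r = σ c := hσ r c hne
      exact h (by rw [hrc, σ.symm_apply_apply])
  have hσk : σ.symm k = k := by
    by_contra hne
    have h1 := congrFun hAk k
    rw [mulVec_single_one, Matrix.col_apply, hAr, if_neg hne] at h1
    simp at h1
  obtain ⟨d, hd, hz₀, hdeq⟩ := exists_lift S k hd₀ σ.symm
  have hcol₀ : (mono d σ.symm : Matrix ι ι F) *ᵥ Pi.single k 1 = d k • Pi.single k 1 := by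
    funext r
    rw [mono_mulVec hd]
    by_cases hr : r = k
    · subst hr; simp [hσk]
    · simp [hr, show σ.symm r ≠ k from fun h => hr (σ.symm.injective (h.trans hσk.symm))]
  obtain ⟨φ, hφk, hzeq⟩ := factor (z := z) (z₀ := mono d σ.symm) (hd k) hcol₀
    (by rw [hdet z hz, hdet _ hz₀]) (fun r hr c => by
      rw [mono_apply hd, hdeq r hr, ← hAr, hA]
      simp [N, Matrix.updateRow_ne, hr])
  have hφ : φ = 0 := by
    by_contra hne
    refine hoff (off_of_center S ⟨l, hl⟩ (by omega) hφk hne ?_)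
    have := M.mul_mem (M.inv_mem hz₀) hz
    rwa [hzeq, inv_mul_cancel_left] at this
  rw [hφ, tv_zero_right, mul_one] at hzeq
  rw [hzeq]
  exact blockMon_mono hd σ.symm fun r => rfl

end Cfsg.Agent.Lib.DecompMax.Stab
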