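import Mathlib.GroupTheory.SpecificGroups.Alternating.Simple
import Mathlib.RingTheory.IntegralDomain
import Cfsg.Agent.Lib.DecompMax.Stab

/-!
Overgroups of the monomial group: a non-monomial element has rows and columns with at most one
(two, over five elements) zero entries, and at least one.
-/

set_option autoImplicit false

namespace Cfsg.Agent.Lib.DecompMax.Supports

open Matrix Cfsg.Agent.Lib.Subspaces.Transvection Cfsg.Agent.Lib.DecompMax.Blocks

variable {ι : Type} [Fintype ι] [DecidableEq ι] {F : Type*} [Field F]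

theorem blockMon_mul {g h : GL ι F} (hg : BlockMon id g) (hh : BlockMon id h) : BlockMon id (g * h) := by
  obtain ⟨σ, hσ⟩ := hg
  obtain ⟨τ, hτ⟩ := hh
  refine ⟨σ * τ, fun a b hab => ?_⟩
  rw [Units.val_mul, Matrix.mul_apply] at hab
  obtain ⟨c, -, hc⟩ := Finset.exists_ne_zero_of_sum_ne_zero hab
  have h1 : a = σ c := hσ a c (left_ne_zero_of_mul hc)
  have h2 : c = τ b := hτ c b (right_ne_zero_of_mul hc)
  show a = σ (τ b)
  rw [h1, h2]

theorem blockMon_one : BlockMon id (1 : GL ι F) := ⟨1, fun a b hab => by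
  by_contra hne
  exact hab (by rw [Units.val_one]; exact Matrix.one_apply_ne hne)⟩

theorem blockMon_inv [Finite F] {g : GL ι F} (hg : BlockMon id g) : BlockMon id g⁻¹ := by
  have hpow : ∀ m : ℕ, BlockMon id (g ^ m) := fun m => by
    induction m with
    | zero => rw [pow_zero]; exact blockMon_one
    | succ m ih => rw [pow_succ]; exact blockMon_mul ih hg
  have := hpow (orderOf g - 1)
  rwa [← inv_eq_of_mul_eq_one_right (show g * g ^ (orderOf g - 1) = 1 by
    rw [← pow_succ', Nat.sub_add_cancel (orderOf_pos g), pow_orderOf_eq_one])] at this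

/-- The action of a monomial matrix on coordinates. -/
theorem mon_mulVec {h : GL ι F} {σ : Equiv.Perm ι} (hσ : ∀ a b, (h : Matrix ι ι F) a b ≠ 0 → a = σ b)
    (x : ι → F) (i : ι) : ((h : Matrix ι ι F) *ᵥ x) (σ i) = (h : Matrix ι ι F) (σ i) i * x i := by
  rw [mulVec, dotProduct, Finset.sum_eq_single i (fun b _ hb => ?_) (by simp)]
  by_contra hne
  exact hb (σ.injective (hσ _ _ (left_ne_zero_of_mul hne))).symm

theorem mon_entry_ne {h : GL ι F} {σ : Equiv.Perm ι} (hσ : ∀ a b, (h : Matrix ι ι F) a b ≠ 0 → a = σ b)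
    (i : ι) : (h : Matrix ι ι F) (σ i) i ≠ 0 := by
  intro h0
  have := congrFun (gl_mulVec_injective h (show (h : Matrix ι ι F) *ᵥ Pi.single i 1 =
    (h : Matrix ι ι F) *ᵥ 0 from funext fun a => by
      obtain ⟨b, rfl⟩ := σ.surjective a
      rw [mon_mulVec hσ, mulVec_zero, Pi.zero_apply]
      by_cases hb : b = i
      · subst hb; rw [h0, zero_mul]
      · simp [hb])) i
  simp at this

/-- Standing hypotheses. -/
structure Hyp (M : Subgroup (GL ι F)) : Prop where
  setting : Blocks.Setting id M
  det : ∀ g ∈ M, (g : Matrix ι ι F).det = 1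
  card : 6 ≤ Fintype.card ι
  five : 5 ≤ Nat.card F
  off : ¬ Off id M

variable {M : Subgroup (GL ι F)} (H : Hyp M) [Finite F]
include H

/-- An element mapping a coordinate line to a coordinate line is monomial. -/
theorem mon_of_line {g : GL ι F} (hg : g ∈ M) {i p : ι} {μ : F}
    (h : (g : Matrix ι ι F) *ᵥ Pi.single i 1 = μ • Pi.single p 1) : BlockMon id g := by
  have hcard := H.card
  obtain ⟨w, -⟩ := Stab.exists_not_mem (s := ({i} : Finset ι)) (by simp; omega)
  obtain ⟨d, hd, hdM, -⟩ := Stab.exists_lift H.setting w (d := (1 : ι → F)) (fun _ => one_ne_zero)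
    (Equiv.swap i p)
  have hfix : ((mono d (Equiv.swap i p) * g : GL ι F) : Matrix ι ι F) *ᵥ Pi.single i 1 =
      (μ * d i) • Pi.single i 1 := by
    rw [gl_mul_mulVec, h, mulVec_smul]
    funext l
    rw [Pi.smul_apply, mono_mulVec hd, Pi.smul_apply, smul_eq_mul, smul_eq_mul]
    by_cases hl : l = i
    · subst hl; simp
    · rw [Pi.single_eq_of_ne hl, Pi.single_eq_of_ne]
      · ring
      · intro e
        exact hl ((Equiv.swap i p).injective (by rw [e, Equiv.swap_apply_left]))
  have h1 := Stab.mon_of_fix H.setting H.five (by omega) H.det H.off (M.mul_mem hdM hg) hfix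
  have h2 := blockMon_mul (blockMon_inv (blockMon_mono (β := id) hd (Equiv.swap i p) fun _ => rfl)) h1
  rwa [inv_mul_cancel_left] at h2

/-- A column with three zeros: impossible over five elements. -/
theorem col_three_zeros (hF : Nat.card F = 5) {g : GL ι F} (hg : g ∈ M) {j p w u : ι} (hpw : p ≠ w)
    (hpu : p ≠ u) (hwu : w ≠ u) (hp : (g : Matrix ι ι F) p j = 0) (hw : (g : Matrix ι ι F) w j = 0)
    (hu : (g : Matrix ι ι F) u j = 0) : BlockMon id g := by
  have hcard := H.card
  haveI := Fintype.ofFinite F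
  have h50 : (5 : F) = 0 := by
    have := FiniteField.cast_card_eq_zero F
    rw [← Nat.card_eq_fintype_card, hF] at this
    exact_mod_cast this
  have h20 : (2 : F) ≠ 0 := fun e => one_ne_zero (show (1 : F) = 0 by linear_combination h50 - 2 * e)
  have h30 : (3 : F) ≠ 0 := fun e => one_ne_zero (show (1 : F) = 0 by linear_combination 2 * e - h50)
  set y := ((g⁻¹ : GL ι F) : Matrix ι ι F) *ᵥ Pi.single p 1
  obtain ⟨i, hyi⟩ : ∃ i, y i ≠ 0 := by
    by_contra hno
    push Not at hno
    have h1 : (g : Matrix ι ι F) *ᵥ y = (g : Matrix ι ι F) *ᵥ 0 := by rw [show y = 0 from funext hno]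
    rw [gl_mulVec_inv, mulVec_zero] at h1
    simpa using congrFun h1 p
  -- with `d = 2` at `p` and `v`, and `4` at `v'`, the column `i` lives on `p` and `v`
  have key : ∀ v v', p ≠ v → p ≠ v' → v ≠ v' → (g : Matrix ι ι F) v j = 0 → (g : Matrix ι ι F) v' j = 0 →
      ∀ z, z ≠ p → z ≠ v → (g : Matrix ι ι F) z i = 0 := by
    intro v v' hpv hpv' hvv' hv hv' z hzp hzv
    set d : ι → F := Function.update (Function.update (Function.update 1 p 2) v 2) v' 4
    have hdp : d p = 2 := by simp [d, hpv, hpv']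
    have hdv : d v = 2 := by simp [d, hvv']
    have hdv' : d v' = 4 := by simp [d]
    have hd1 : ∀ x, x ≠ p → x ≠ v → x ≠ v' → d x = 1 := fun x h1 h2 h3 => by simp [d, h1, h2, h3]
    have h40 : (4 : F) ≠ 0 := fun e => h20 (by
      exact absurd (show (1 : F) = 0 by linear_combination h50 - e) one_ne_zero)
    have hd : ∀ x, d x ≠ 0 := fun x => by
      by_cases h1 : x = p
      · rw [h1, hdp]; exact h20
      by_cases h2 : x = v
      · rw [h2, hdv]; exact h20
      by_cases h3 : x = v'
      · rw [h3, hdv']; exact h40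
      rw [hd1 x h1 h2 h3]; exact one_ne_zero
    have hdet : ∏ x, d x = 1 := by
      rw [← Finset.prod_subset (Finset.subset_univ ({p, v, v'} : Finset ι)) (fun x _ hx => by
        simp only [Finset.mem_insert, Finset.mem_singleton, not_or] at hx
        exact hd1 x hx.1 hx.2.1 hx.2.2),
        Finset.prod_insert (by simp [hpv, hpv']), Finset.prod_pair hvv', hdp, hdv, hdv']
      linear_combination 3 * h50
    have hdM := H.setting.diag_mem hd hdet
    set D := mono d 1
    have hDx : ∀ (x : ι → F) y, ((D : Matrix ι ι F) *ᵥ x) y = d y * x y := fun x y => by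
      simp [D, mono_mulVec hd]
    set h := g⁻¹ * D * g
    have hh : h ∈ M := M.mul_mem (M.mul_mem (M.inv_mem hg) hdM) hg
    have hfixed : (h : Matrix ι ι F) *ᵥ Pi.single j 1 = (1 : F) • Pi.single j 1 := by
      rw [one_smul, gl_mul_mulVec, gl_mul_mulVec]
      have : (D : Matrix ι ι F) *ᵥ ((g : Matrix ι ι F) *ᵥ Pi.single j 1) =
          (g : Matrix ι ι F) *ᵥ Pi.single j 1 := by
        funext x
        rw [hDx, mulVec_single_one, Matrix.col_apply]
        by_cases h1 : x = p
        · rw [h1, hp, mul_zero]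
        by_cases h2 : x = v
        · rw [h2, hv, mul_zero]
        by_cases h3 : x = v'
        · rw [h3, hv', mul_zero]
        rw [hd1 x h1 h2 h3, one_mul]
      rw [this, gl_inv_mulVec]
    obtain ⟨σ, hσ⟩ := Stab.mon_of_fix H.setting H.five (by omega) H.det H.off hh hfixed
    replace hσ : ∀ a b, (h : Matrix ι ι F) a b ≠ 0 → a = σ b := hσ
    set c : ι → F := fun i => (h : Matrix ι ι F) (σ i) i
    have hc : ∀ i, c i ≠ 0 := mon_entry_ne hσ
    have happ : ∀ i, (h : Matrix ι ι F) *ᵥ Pi.single i 1 = c i • Pi.single (σ i) 1 := fun i => by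
      funext a
      obtain ⟨b, rfl⟩ := σ.surjective a
      rw [mon_mulVec hσ]
      by_cases hb : b = i
      · subst hb; simp [c]
      · simp [hb]
    have hconj : ∀ x, (g : Matrix ι ι F) *ᵥ ((h : Matrix ι ι F) *ᵥ x) =
        (D : Matrix ι ι F) *ᵥ ((g : Matrix ι ι F) *ᵥ x) := fun x => by
      rw [gl_mul_mulVec, gl_mul_mulVec, gl_mulVec_inv]
    have hdroot : ∀ x, d x ^ 3 - 2 * d x ^ 2 + 4 * d x - 3 = 0 := fun x => by
      by_cases h1 : x = p
      · rw [h1, hdp]; linear_combination h50
      by_cases h2 : x = v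
      · rw [h2, hdv]; linear_combination h50
      by_cases h3 : x = v'
      · rw [h3, hdv']; linear_combination (9 : F) * h50
      rw [hd1 x h1 h2 h3]; ring
    have hcubic : (h : Matrix ι ι F) *ᵥ ((h : Matrix ι ι F) *ᵥ ((h : Matrix ι ι F) *ᵥ Pi.single i 1))
          - (2 : F) • ((h : Matrix ι ι F) *ᵥ ((h : Matrix ι ι F) *ᵥ Pi.single i 1))
          + (4 : F) • ((h : Matrix ι ι F) *ᵥ Pi.single i 1) - (3 : F) • Pi.single i (1 : F) = 0 := by
      refine gl_mulVec_injective g ?_
      show (g : Matrix ι ι F) *ᵥ _ = (g : Matrix ι ι F) *ᵥ 0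
      rw [mulVec_zero]
      simp only [mulVec_sub, mulVec_add, mulVec_smul, hconj]
      funext x
      simp only [Pi.sub_apply, Pi.add_apply, Pi.smul_apply, smul_eq_mul, hDx, Pi.zero_apply]
      linear_combination ((g : Matrix ι ι F) *ᵥ Pi.single i 1) x * hdroot x
    have hy2 : (h : Matrix ι ι F) *ᵥ y = (2 : F) • y := by
      refine gl_mulVec_injective g ?_
      show (g : Matrix ι ι F) *ᵥ _ = (g : Matrix ι ι F) *ᵥ _
      rw [hconj, mulVec_smul, gl_mulVec_inv]
      funext x
      rw [hDx]
      by_cases hx : x = p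
      · subst hx; simp [hdp]
      · simp [hx]
    have e1 : c i * y i = 2 * y (σ i) := by
      have := mon_mulVec hσ y i
      rw [hy2, Pi.smul_apply, smul_eq_mul] at this
      exact this.symm
    have hfix : σ i = i := by
      by_contra hne
      simp only [happ, mulVec_smul, smul_smul] at hcubic
      have hne2 : σ (σ i) ≠ σ i := fun e => hne (σ.injective e)
      have hne3 : σ (σ (σ i)) ≠ σ (σ i) := fun e => hne2 (σ.injective e)
      by_cases h2 : σ (σ i) = i
      · have hi := congrFun hcubic i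
        rw [h2] at hi
        simp [hne, Ne.symm hne] at hi
        have e2 : c (σ i) * y (σ i) = 2 * y i := by
          have := mon_mulVec hσ y (σ i)
          rw [hy2, Pi.smul_apply, smul_eq_mul, h2] at this
          simpa [c, h2] using this.symm
        refine hyi ((mul_eq_zero.1 (show (3 : F) * y i = 0 from ?_)).resolve_left h30)
        have e3 : c i * c (σ i) = 1 := mul_left_cancel₀ h20 (by linear_combination -hi - h50)
        linear_combination -(c (σ i)) * e1 - 2 * e2 + y i * e3
      · by_cases h3' : σ (σ (σ i)) = i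
        · have h1 := congrFun hcubic (σ i)
          rw [h3'] at h1
          have h40' : (4 : F) ≠ 0 := h40
          simp [hne, Ne.symm hne2, Ne.symm h2, hc, h40'] at h1
        · have hlast := congrFun hcubic (σ (σ (σ i)))
          have hne13 : σ (σ (σ i)) ≠ σ i := fun e => h2 (σ.injective e)
          simp [hne3, hne13, h3', hc] at hlast
    rw [hfix] at e1
    have hci : c i = 2 := mul_right_cancel₀ hyi e1
    have h1 := congrFun (hconj (Pi.single i 1)) z
    rw [happ, hfix, hci, mulVec_smul, Pi.smul_apply, smul_eq_mul, hDx, mulVec_single_one, Matrix.col_apply] at h1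
    refine (mul_eq_zero.1 (show (d z - 2) * (g : Matrix ι ι F) z i = 0 by linear_combination -h1)).resolve_left ?_
    by_cases h3 : z = v'
    · rw [h3, hdv']; exact fun e => h20 (by linear_combination e)
    · rw [hd1 z hzp hzv h3]; exact fun e => one_ne_zero (show (1 : F) = 0 by linear_combination -e)
  refine mon_of_line H hg (i := i) (p := p) (μ := (g : Matrix ι ι F) p i) ?_
  funext z
  rw [mulVec_single_one, Matrix.col_apply, Pi.smul_apply, smul_eq_mul]
  by_cases hz : z = p
  · subst hz; simp
  rw [Pi.single_eq_of_ne hz, mul_zero]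
  by_cases hzw : z = w
  · exact key u w hpu hpw hwu.symm hu hw z hz (hzw ▸ hwu)
  · exact key w u hpw hpu hwu hw hu z hz hzw

/-- A column with two zeros: impossible. -/
theorem col_two_zeros {g : GL ι F} (hg : g ∈ M) {j p w : ι} (hpw : p ≠ w)
    (hp : (g : Matrix ι ι F) p j = 0) (hw : (g : Matrix ι ι F) w j = 0) : BlockMon id g := by
  by_contra hnm
  refine hnm ?_
  have hcard := H.card
  have hF := H.five
  haveI := Fintype.ofFinite F
  obtain ⟨u, hu⟩ := IsCyclic.exists_generator (α := Fˣ)
  have hord : orderOf u = Nat.card F - 1 := by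
    rw [orderOf_eq_card_of_forall_mem_zpowers hu, Nat.card_units]
  set l : F := (u : F)
  have hl0 : l ≠ 0 := u.ne_zero
  have hlpow : ∀ m : ℕ, 0 < m → m ≤ 3 → l ^ m ≠ 1 := fun m hm hm4 h => by
    have h' : u ^ m = 1 := Units.ext (by simpa [l] using h)
    have := Nat.le_of_dvd hm (orderOf_dvd_of_pow_eq_one h')
    omega
  obtain ⟨d, hd, hdM, hdp, hdw, hd1⟩ := Stab.scale_mem H.setting hpw hl0
  set D := mono d 1
  have hDx : ∀ (x : ι → F) y, ((D : Matrix ι ι F) *ᵥ x) y = d y * x y := fun x y => by simp [D, mono_mulVec hd]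
  set h := g⁻¹ * D * g
  have hh : h ∈ M := M.mul_mem (M.mul_mem (M.inv_mem hg) hdM) hg
  have hfixed : (h : Matrix ι ι F) *ᵥ Pi.single j 1 = (1 : F) • Pi.single j 1 := by
    rw [one_smul, gl_mul_mulVec, gl_mul_mulVec]
    have : (D : Matrix ι ι F) *ᵥ ((g : Matrix ι ι F) *ᵥ Pi.single j 1) = (g : Matrix ι ι F) *ᵥ Pi.single j 1 := by
      funext y
      rw [hDx, mulVec_single_one, Matrix.col_apply]
      by_cases h1 : y = p
      · rw [h1, hp, mul_zero]
      by_cases h2 : y = w
      · rw [h2, hw, mul_zero]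
      rw [hd1 y h1 h2, one_mul]
    rw [this, gl_inv_mulVec]
  obtain ⟨σ, hσ⟩ := Stab.mon_of_fix H.setting H.five (by omega) H.det H.off hh hfixed
  replace hσ : ∀ a b, (h : Matrix ι ι F) a b ≠ 0 → a = σ b := hσ
  set c : ι → F := fun i => (h : Matrix ι ι F) (σ i) i
  have hc : ∀ i, c i ≠ 0 := mon_entry_ne hσ
  have happ : ∀ i, (h : Matrix ι ι F) *ᵥ Pi.single i 1 = c i • Pi.single (σ i) 1 := fun i => by
    funext a
    obtain ⟨b, rfl⟩ := σ.surjective a
    rw [mon_mulVec hσ]
    by_cases hb : b = i
    · subst hb; simp [c]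
    · simp [hb]
  have hconj : ∀ x, (g : Matrix ι ι F) *ᵥ ((h : Matrix ι ι F) *ᵥ x) =
      (D : Matrix ι ι F) *ᵥ ((g : Matrix ι ι F) *ᵥ x) := fun x => by
    rw [gl_mul_mulVec, gl_mul_mulVec, gl_mulVec_inv]
  set s := 1 + l + l⁻¹
  have hdroot : ∀ y, d y ^ 3 - s * d y ^ 2 + s * d y - 1 = 0 := fun y => by
    by_cases h1 : y = p
    · rw [h1, hdp]; simp only [s]; field_simp; ring
    by_cases h2 : y = w
    · rw [h2, hdw]; simp only [s]; field_simp; ring
    rw [hd1 y h1 h2]; ring
  have hcubic : ∀ x : ι → F,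
      (h : Matrix ι ι F) *ᵥ ((h : Matrix ι ι F) *ᵥ ((h : Matrix ι ι F) *ᵥ x))
        - s • ((h : Matrix ι ι F) *ᵥ ((h : Matrix ι ι F) *ᵥ x)) + s • ((h : Matrix ι ι F) *ᵥ x) - x = 0 := by
    intro x
    refine gl_mulVec_injective g ?_
    show (g : Matrix ι ι F) *ᵥ _ = (g : Matrix ι ι F) *ᵥ 0
    rw [mulVec_zero]
    simp only [mulVec_sub, mulVec_add, mulVec_smul, hconj]
    funext y
    simp only [Pi.sub_apply, Pi.add_apply, Pi.smul_apply, smul_eq_mul, hDx, Pi.zero_apply]
    linear_combination ((g : Matrix ι ι F) *ᵥ x) y * hdroot y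
  have hfix : ∀ i, σ i = i := by
    intro i
    by_contra hne
    have h3 := hcubic (Pi.single i 1)
    simp only [happ, mulVec_smul, smul_smul] at h3
    have hne2 : σ (σ i) ≠ σ i := fun e => hne (σ.injective e)
    have hne3 : σ (σ (σ i)) ≠ σ (σ i) := fun e => hne2 (σ.injective e)
    have hi := congrFun h3 i
    have h1 := congrFun h3 (σ i)
    by_cases h2 : σ (σ i) = i
    · rw [h2] at hi h1
      simp [hne, Ne.symm hne] at hi h1
      have hsum : c i * c (σ i) + s = 0 := by
        refine mul_left_cancel₀ (hc i) ?_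
        linear_combination h1
      have hs1 : (s - 1) * (s + 1) = 0 := by linear_combination hi + s * hsum
      rcases mul_eq_zero.1 hs1 with h' | h'
      · have hl4 : l ^ 4 = 1 := by
          have h'' := h'
          simp only [s] at h''
          field_simp at h''
          linear_combination (l ^ 2 - 1) * h''
        have h5 : Nat.card F = 5 := by
          have h'' : u ^ 4 = 1 := Units.ext (by simpa [l] using hl4)
          have := Nat.le_of_dvd (by norm_num) (orderOf_dvd_of_pow_eq_one h'')
          omega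
        have hsq : (h : Matrix ι ι F) *ᵥ ((h : Matrix ι ι F) *ᵥ Pi.single i 1) = (-1 : F) • Pi.single i 1 := by
          rw [happ, mulVec_smul, happ, smul_smul, h2]
          congr 1
          linear_combination hsum - h'
        have h20 : (2 : F) ≠ 0 := fun e => one_ne_zero (show (1 : F) = 0 by
          have h50 := FiniteField.cast_card_eq_zero F
          rw [← Nat.card_eq_fintype_card, h5] at h50
          push_cast at h50
          linear_combination h50 - 2 * e)
        have hcol : ∀ y, y ≠ p → y ≠ w → (g : Matrix ι ι F) y i = 0 := fun y hyp hyw => by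
          have e := congrFun (congrArg (fun z => (g : Matrix ι ι F) *ᵥ z) hsq) y
          simp only [hconj, mulVec_smul] at e
          simp only [hDx, Pi.smul_apply, smul_eq_mul, hd1 y hyp hyw, one_mul,
            mulVec_single_one, Matrix.col_apply] at e
          exact (mul_eq_zero.1 (show (2 : F) * (g : Matrix ι ι F) y i = 0 by linear_combination e)).resolve_left h20
        obtain ⟨a₁, ha₁⟩ := Stab.exists_not_mem (s := ({p, w} : Finset ι)) (by
          have := Finset.card_le_two (a := p) (b := w); omega)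
        obtain ⟨a₂, ha₂⟩ := Stab.exists_not_mem (s := ({p, w, a₁} : Finset ι)) (by
          have := Finset.card_le_three (a := p) (b := w) (c := a₁); omega)
        obtain ⟨a₃, ha₃⟩ := Stab.exists_not_mem (s := ({p, w, a₁, a₂} : Finset ι)) (by
          have := Finset.card_le_four (a := p) (b := w) (c := a₁) (d := a₂); omega)
        simp only [Finset.mem_insert, Finset.mem_singleton, not_or] at ha₁ ha₂ ha₃
        exact hnm (col_three_zeros H h5 hg (Ne.symm ha₂.2.2) (Ne.symm ha₃.2.2.1) (Ne.symm ha₃.2.2.2)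
          (hcol a₁ ha₁.1 ha₁.2) (hcol a₂ ha₂.1 ha₂.2.1) (hcol a₃ ha₃.1 ha₃.2.1))
      · refine hlpow 2 (by norm_num) (by norm_num) ?_
        simp only [s] at h'
        field_simp at h'
        have h'' : (l + 1) ^ 2 = 0 := by linear_combination h'
        linear_combination (l - 1) * (pow_eq_zero_iff (n := 2) (by norm_num)).1 h''
    · by_cases h3' : σ (σ (σ i)) = i
      · rw [h3'] at h1
        simp [hne, Ne.symm hne2, Ne.symm h2] at h1
        have hs0 : s = 0 := h1.resolve_right (hc i)
        refine hlpow 3 (by norm_num) (by norm_num) ?_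
        simp only [s] at hs0
        field_simp at hs0
        linear_combination (l - 1) * hs0
      · have hlast := congrFun h3 (σ (σ (σ i)))
        have hne13 : σ (σ (σ i)) ≠ σ i := fun e => h2 (σ.injective e)
        simp [hne3, hne13, h3', hc] at hlast
  obtain ⟨i, hi⟩ : ∃ i, c i = l := by
    by_contra hno
    push Not at hno
    have hquad : ∀ x : ι → F, (h : Matrix ι ι F) *ᵥ ((h : Matrix ι ι F) *ᵥ x)
        - (1 + l⁻¹) • ((h : Matrix ι ι F) *ᵥ x) + l⁻¹ • x = 0 := by
      intro x
      funext i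
      have e : ∀ z : ι → F, ((h : Matrix ι ι F) *ᵥ z) i = c i * z i := fun z => by
        have := mon_mulVec hσ z i
        rw [hfix i] at this
        rw [this]; simp [c, hfix i]
      simp only [Pi.sub_apply, Pi.add_apply, Pi.smul_apply, smul_eq_mul, e, Pi.zero_apply]
      have hroot := congrFun (hcubic (Pi.single i 1)) i
      simp only [Pi.sub_apply, Pi.add_apply, Pi.smul_apply, smul_eq_mul, e, Pi.single_eq_same, Pi.zero_apply]
        at hroot
      have hfac : (c i - l) * (c i * c i - (1 + l⁻¹) * c i + l⁻¹) = 0 := by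
        simp only [s] at hroot
        linear_combination hroot - (1 - c i) * mul_inv_cancel₀ hl0
      linear_combination x i * (mul_eq_zero.1 hfac).resolve_left (sub_ne_zero.2 (hno i))
    have := congrArg (fun z => ((g : Matrix ι ι F) *ᵥ z) p)
      (hquad (((g⁻¹ : GL ι F) : Matrix ι ι F) *ᵥ Pi.single p 1))
    simp only [mulVec_sub, mulVec_add, mulVec_smul, hconj, gl_mulVec_inv, mulVec_zero, Pi.sub_apply,
      Pi.add_apply, Pi.smul_apply, smul_eq_mul, hDx, Pi.single_eq_same, hdp, Pi.zero_apply] at this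
    refine hlpow 2 (by norm_num) (by norm_num) ?_
    field_simp at this
    have h' : (l - 1) * (l ^ 2 - 1) = 0 := by linear_combination this
    rcases mul_eq_zero.1 h' with h1 | h1
    · linear_combination (l + 1) * h1
    · linear_combination h1
  refine mon_of_line H hg (i := i) (p := p) (μ := ((g : Matrix ι ι F) *ᵥ Pi.single i 1) p) ?_
  funext y
  by_cases hy : y = p
  · subst hy; simp
  have h1 := congrFun (hconj (Pi.single i 1)) y
  rw [happ, hfix, hi, mulVec_smul, Pi.smul_apply, smul_eq_mul, hDx] at h1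
  have hne : d y ≠ l := by
    by_cases h2 : y = w
    · rw [h2, hdw]
      intro e
      refine hlpow 2 (by norm_num) (by norm_num) ?_
      field_simp at e
      linear_combination -e
    · rw [hd1 y hy h2]
      exact fun e => hlpow 1 (by norm_num) (by norm_num) (by rw [pow_one, ← e])
  rw [Pi.smul_apply, Pi.single_eq_of_ne hy, smul_zero]
  exact (mul_eq_zero.1 (show (d y - l) * ((g : Matrix ι ι F) *ᵥ Pi.single i 1) y = 0 by
    linear_combination -h1)).resolve_left (sub_ne_zero.2 hne)

/-- A column without zeros: impossible. -/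
theorem col_exists_zero {g : GL ι F} (hg : g ∈ M) (j : ι) : ∃ p, (g : Matrix ι ι F) p j = 0 := by
  classical
  have hcard := H.card
  by_contra hno
  push Not at hno
  set a : ι → F := fun l => (g : Matrix ι ι F) l j
  let d : alternatingGroup ι → ι → F := fun π l => a l / a ((π : Equiv.Perm ι)⁻¹ l)
  have hd : ∀ π l, d π l ≠ 0 := fun π l => div_ne_zero (hno l) (hno _)
  let ψ : alternatingGroup ι →* GL ι F :=
    { toFun := fun π => mono (d π) (π : Equiv.Perm ι)⁻¹
      map_one' := gl_ext fun x => funext fun l => by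
        rw [mono_mulVec (hd 1)]
        simp only [d, OneMemClass.coe_one, inv_one, Equiv.Perm.coe_one, id_eq, Units.val_one, one_mulVec]
        show a l / a l * x l = x l
        rw [div_self (hno l), one_mul]
      map_mul' := fun π τ => gl_ext fun x => funext fun l => by
        rw [gl_mul_mulVec, mono_mulVec (hd _), mono_mulVec (hd _), mono_mulVec (hd _)]
        simp only [d, Subgroup.coe_mul, _root_.mul_inv_rev, Equiv.Perm.mul_apply]
        rw [← mul_assoc, div_mul_div_cancel₀ (hno _)] }
  have hψM : ∀ π, ψ π ∈ M := fun π => H.setting.mem _ (blockMon_mono (hd π) _ fun _ => rfl) (by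
    show (mono (d π) (π : Equiv.Perm ι)⁻¹ : Matrix ι ι F).det = 1
    rw [det_mono (hd π), Equiv.Perm.sign_inv, Equiv.Perm.mem_alternatingGroup.1 π.2]
    simp only [d, Finset.prod_div_distrib]
    rw [Equiv.prod_comp ((π : Equiv.Perm ι)⁻¹) a, div_self (Finset.prod_ne_zero_iff.2 fun l _ => hno l)]
    simp)
  let φ : alternatingGroup ι →* GL ι F := (MulAut.conj g⁻¹).toMonoidHom.comp ψ
  have hφ : ∀ π, φ π = g⁻¹ * ψ π * g := fun π => by simp [φ, MulAut.conj_apply]
  have hmon : ∀ π, ∃ σ : Equiv.Perm ι, ∀ x y, (φ π : Matrix ι ι F) x y ≠ 0 → x = σ y := by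
    intro π
    refine Stab.mon_of_fix H.setting H.five (by omega) H.det H.off
      (hφ π ▸ M.mul_mem (M.mul_mem (M.inv_mem hg) (hψM π)) hg) (k := j) (μ := 1) ?_
    have : (ψ π : Matrix ι ι F) *ᵥ a = a := funext fun l => by
      show ((mono (d π) (π : Equiv.Perm ι)⁻¹ : GL ι F) : Matrix ι ι F).mulVec a l = a l
      rw [mono_mulVec (hd π)]
      exact div_mul_cancel₀ _ (hno _)
    rw [one_smul, hφ, gl_mul_mulVec, gl_mul_mulVec, mulVec_single_one]
    show ((g⁻¹ : GL ι F) : Matrix ι ι F) *ᵥ ((ψ π : Matrix ι ι F) *ᵥ a) = _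
    rw [this]
    show ((g⁻¹ : GL ι F) : Matrix ι ι F) *ᵥ (g : Matrix ι ι F).col j = _
    rw [← mulVec_single_one, gl_inv_mulVec]
  choose τ hτ using hmon
  have huniq : ∀ (π : alternatingGroup ι) (σ : Equiv.Perm ι),
      (∀ x y, (φ π : Matrix ι ι F) x y ≠ 0 → x = σ y) → σ = τ π := fun π σ hσ =>
    Equiv.ext fun y => (hσ _ y (mon_entry_ne (hτ π) y)).symm
  let θ : alternatingGroup ι →* Equiv.Perm ι :=
    { toFun := τ
      map_one' := (huniq 1 1 fun x y h => by
        by_contra hne
        exact h (by rw [map_one, Units.val_one]; exact Matrix.one_apply_ne hne)).symm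
      map_mul' := fun π π' => (huniq _ _ fun x y h => by
        rw [map_mul, Units.val_mul, Matrix.mul_apply] at h
        obtain ⟨z, -, hz⟩ := Finset.exists_ne_zero_of_sum_ne_zero h
        rw [Equiv.Perm.mul_apply, ← hτ π' z y (right_ne_zero_of_mul hz)]
        exact hτ π x z (left_ne_zero_of_mul hz)).symm }
  haveI := alternatingGroup.isSimpleGroup (α := ι) (by rw [Nat.card_eq_fintype_card]; omega)
  have hθj : ∀ π, θ π j = j := fun π => by
    have h1 : (φ π : Matrix ι ι F) j j ≠ 0 := by
      have : (ψ π : Matrix ι ι F) *ᵥ a = a := funext fun l => by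
        show ((mono (d π) (π : Equiv.Perm ι)⁻¹ : GL ι F) : Matrix ι ι F).mulVec a l = a l
        rw [mono_mulVec (hd π)]
        exact div_mul_cancel₀ _ (hno _)
      have h2 : (φ π : Matrix ι ι F) *ᵥ Pi.single j 1 = Pi.single j 1 := by
        rw [hφ, gl_mul_mulVec, gl_mul_mulVec, mulVec_single_one]
        show ((g⁻¹ : GL ι F) : Matrix ι ι F) *ᵥ ((ψ π : Matrix ι ι F) *ᵥ a) = _
        rw [this]
        show ((g⁻¹ : GL ι F) : Matrix ι ι F) *ᵥ (g : Matrix ι ι F).col j = _
        rw [← mulVec_single_one, gl_inv_mulVec]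
      have h3 := congrFun h2 j
      rw [mulVec_single_one, Matrix.col_apply] at h3
      rw [h3, Pi.single_eq_same]; exact one_ne_zero
    exact (hτ π j j h1).symm
  have hker : θ.ker = ⊤ := by
    refine (θ.normal_ker.eq_bot_or_eq_top).resolve_left fun hbot => ?_
    let θ' : alternatingGroup ι → Equiv.Perm {x // x ≠ j} := fun π => (θ π).subtypePerm fun x =>
      not_congr ((θ π).injective.eq_iff' (hθj π))
    have hinj : Function.Injective θ' := fun π π' h => (MonoidHom.ker_eq_bot_iff θ).1 hbot <| Equiv.ext fun x => by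
      by_cases hx : x = j
      · rw [hx, hθj, hθj]
      · exact congrArg (fun f : Equiv.Perm {x // x ≠ j} => ((f ⟨x, hx⟩ : {x // x ≠ j}) : ι)) h
    have hle := Nat.card_le_card_of_injective θ' hinj
    haveI : Nontrivial ι := Fintype.one_lt_card_iff_nontrivial.1 (by omega)
    rw [Nat.card_eq_fintype_card, Nat.card_eq_fintype_card, Fintype.card_perm] at hle
    have h2 : 2 * Fintype.card (alternatingGroup ι) = (Fintype.card ι).factorial := by
      rw [two_mul_card_alternatingGroup, Fintype.card_perm]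
    have h3 : Fintype.card {x // x ≠ j} = Fintype.card ι - 1 := by
      rw [Fintype.card_subtype_compl, Fintype.card_subtype_eq]
    rw [h3] at hle
    obtain ⟨m, hm⟩ : ∃ m, Fintype.card ι = m + 1 := ⟨Fintype.card ι - 1, by omega⟩
    rw [hm, Nat.add_sub_cancel] at hle
    rw [hm, Nat.factorial_succ] at h2
    nlinarith [Nat.factorial_pos m]
  have hdiag : ∀ π x y, (φ π : Matrix ι ι F) x y ≠ 0 → x = y := fun π x y h => by
    have h1 := hτ π x y h
    have h2 : τ π = 1 := MonoidHom.mem_ker.1 (show π ∈ θ.ker from hker ▸ Subgroup.mem_top π)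
    rwa [h2] at h1
  have hcomm : ∀ π π', φ π * φ π' = φ π' * φ π := fun π π' => by
    have hD : ∀ π, (φ π : Matrix ι ι F) = diagonal fun x => (φ π : Matrix ι ι F) x x := fun π => by
      ext x y
      by_cases h : x = y
      · subst h; simp
      · rw [diagonal_apply_ne _ h]
        by_contra hne
        exact h (hdiag π x y hne)
    apply Units.ext
    rw [Units.val_mul, Units.val_mul, hD π, hD π', diagonal_mul_diagonal, diagonal_mul_diagonal]
    exact congrArg diagonal (funext fun x => mul_comm _ _)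
  -- two even permutations that do not commute
  obtain ⟨b, hb⟩ := Stab.exists_not_mem (s := ({j} : Finset ι)) (by simp; omega)
  obtain ⟨c, hc⟩ := Stab.exists_not_mem (s := ({j, b} : Finset ι)) (by
    have := Finset.card_le_two (a := j) (b := b); omega)
  obtain ⟨e, he⟩ := Stab.exists_not_mem (s := ({j, b, c} : Finset ι)) (by
    have := Finset.card_le_three (a := j) (b := b) (c := c); omega)
  simp only [Finset.mem_insert, Finset.mem_singleton, not_or] at hb hc he
  have heven : ∀ c, c ≠ j → c ≠ b → Equiv.swap j b * Equiv.swap j c ∈ alternatingGroup ι := fun c h1 _ => by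
    rw [Equiv.Perm.mem_alternatingGroup, map_mul, Equiv.Perm.sign_swap (Ne.symm hb),
      Equiv.Perm.sign_swap (Ne.symm h1)]
    rfl
  set π₁ : alternatingGroup ι := ⟨_, heven c hc.1 hc.2⟩
  set π₂ : alternatingGroup ι := ⟨_, heven e he.1 he.2.1⟩
  have h12 : π₁ * π₂ = π₂ * π₁ := by
    have h := hcomm π₁ π₂
    rw [← map_mul, ← map_mul] at h
    have hψ : ψ (π₁ * π₂) = ψ (π₂ * π₁) := by
      have := congrArg (fun z => g * z * g⁻¹) h
      simpa [hφ, mul_assoc] using this
    apply Subtype.ext
    refine inv_injective (Equiv.ext fun l => ?_)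
    by_contra hne
    have h1 := congrArg (fun z : GL ι F =>
      ((z : Matrix ι ι F) *ᵥ Pi.single (((π₁ * π₂ : alternatingGroup ι) : Equiv.Perm ι)⁻¹ l) 1) l) hψ
    simp only [ψ, MonoidHom.coe_mk, OneHom.coe_mk, mono_mulVec (hd _), Pi.single_eq_same, mul_one,
      Pi.single_eq_of_ne (Ne.symm hne), mul_zero] at h1
    exact hd _ _ h1
  have h := congrArg (fun z : alternatingGroup ι => (z : Equiv.Perm ι) j) h12
  simp only [π₁, π₂, Subgroup.coe_mul, Equiv.Perm.mul_apply] at h
  rw [Equiv.swap_apply_left, Equiv.swap_apply_of_ne_of_ne he.1 he.2.1, Equiv.swap_apply_of_ne_of_ne he.1 he.2.2,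
    Equiv.swap_apply_of_ne_of_ne he.1 he.2.1, Equiv.swap_apply_left, Equiv.swap_apply_of_ne_of_ne hc.1 hc.2,
    Equiv.swap_apply_of_ne_of_ne hc.1 (Ne.symm he.2.2), Equiv.swap_apply_of_ne_of_ne hc.1 hc.2] at h
  exact he.2.2 h

end Cfsg.Agent.Lib.DecompMax.Supports
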